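import Mathlib
import Cfsg.Agent.Mrg.Omega.NO3S.BetaFF.Act
import Cfsg.Agent.Mrg.Omega.NOne.Flat.OffMod

-- merged: Cfsg.Agent.Omega.NO3S.BetaFF.ClaimA
section

/-!
THEOREM BETA-FF, CLAIM A (284 #19171 (2), #19509 (1)) by 569's argument #19664: type-free, no count.

`Cl P S MM Q V E F W B L R`: `L ≤ V`, `Q ⊴ P`, `MM` contains every proper subgroup of `P` over `S`,
`[E, W] ≤ F`, `F` centralises `W`, `B ≤ W ∩ Q`, (a) `C_V(B) ≤ L F`, (b) `C_V(Q) ≤ L`,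
`L` and `V` are `P`-invariant, `R` is a subgroup such that `C_R(W^h) = 1` for all `h ∈ P` with
`W^h` not in `MM`, and `R` contains no `P`-invariant subgroup
(`R = Z` with `C_Z(P) = 1`: `Cl.of_center`; or `R` = a root line).

`Cl.claim`: if `L ≤ LL ≤ V` is `S`-invariant, `[LL, Q] ≤ R` and `LL` is not inside `L`, then
`LL^g` is not inside `E` for some `g ∈ P` such that `W^(g⁻¹)` is not inside `MM`.
-/

namespace Cfsg.Agent.Omega.NO3S.BetaFF.ClaimA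

variable {G : Type*} [Group G]

/-- The data of CLAIM A without the subgroup `R`. -/
structure Cb (P S MM Q V E F W B L : Subgroup G) : Prop where
  S_le : S ≤ P
  /-- `MM` contains every proper subgroup of `P` over `S` -/
  max : ∀ H : Subgroup G, S ≤ H → H ≤ P → ¬ H ≤ MM → P ≤ H
  W_le : W ≤ P
  /-- `W` is moved out of `MM` by some element of `P` -/
  move : ∃ h ∈ P, ∃ w ∈ W, h * w * h⁻¹ ∉ MM
  Q_norm : ∀ g ∈ P, ∀ x ∈ Q, g * x * g⁻¹ ∈ Q
  V_norm : ∀ g ∈ P, ∀ x ∈ V, g * x * g⁻¹ ∈ V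
  L_norm : ∀ g ∈ P, ∀ x ∈ L, g * x * g⁻¹ ∈ L
  L_le : L ≤ V
  EW : ∀ e ∈ E, ∀ w ∈ W, w * e * w⁻¹ * e⁻¹ ∈ F
  FW : ∀ f ∈ F, ∀ w ∈ W, w * f = f * w
  B_Q : B ≤ Q
  B_W : B ≤ W
  /-- (a) -/
  a : ∀ x ∈ V, (∀ b ∈ B, b * x = x * b) → ∃ l ∈ L, ∃ f ∈ F, x = l * f
  /-- (b) -/
  b : ∀ x ∈ V, (∀ c ∈ Q, c * x = x * c) → x ∈ L

/-- The data of CLAIM A. -/
structure Cl (P S MM Q V E F W B L R : Subgroup G) : Prop extends Cb P S MM Q V E F W B L where
  /-- `C_R(W^h) = 1` if `W^h` is not inside `MM` -/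
  R_free : ∀ h ∈ P, (∃ w ∈ W, h * w * h⁻¹ ∉ MM) →
    ∀ r ∈ R, (∀ w ∈ W, (h * w * h⁻¹) * r = r * (h * w * h⁻¹)) → r = 1
  /-- `R` contains no `P`-invariant subgroup -/
  R_int : ∀ r ∈ R, (∀ p ∈ P, p * r * p⁻¹ ∈ R) → r = 1

variable {P S MM Q V E F W B L R : Subgroup G}

/-- The case `R = Z`: `S` centralises `Z` and `C_Z(P) = 1`. -/
theorem Cb.of_center (h : Cb P S MM Q V E F W B L) (hW : W ≤ S)
    (hS : ∀ z ∈ R, ∀ s ∈ S, s * z = z * s)
    (hP : ∀ z ∈ R, (∀ p ∈ P, p * z = z * p) → z = 1) : Cl P S MM Q V E F W B L R := by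
  have key : ∀ r ∈ R, ∀ x ∈ P, x ∉ MM → x * r = r * x → r = 1 := by
    intro r hr x hx hxM hxr
    refine hP r hr ?_
    have hle : P ≤ P ⊓ Subgroup.centralizer {r} := by
      refine h.max _ ?_ inf_le_left ?_
      · refine le_inf h.S_le ?_
        intro s hs
        rw [Subgroup.mem_centralizer_singleton_iff]
        exact hS r hr s hs
      · intro hle
        exact hxM (hle (Subgroup.mem_inf.mpr
          ⟨hx, Subgroup.mem_centralizer_singleton_iff.mpr hxr⟩))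
    intro p hp
    exact Subgroup.mem_centralizer_singleton_iff.mp (Subgroup.mem_inf.mp (hle hp)).2
  refine ⟨h, ?_, ?_⟩
  · rintro g hg ⟨w, hw, hwM⟩ r hr hc
    exact key r hr _ (P.mul_mem (P.mul_mem hg (h.W_le hw)) (P.inv_mem hg)) hwM (hc w hw)
  · intro r hr hc
    obtain ⟨g, hg, w, hw, hwM⟩ := h.move
    refine key r hr _ (P.mul_mem (P.mul_mem hg (h.W_le hw)) (P.inv_mem hg)) hwM ?_
    have h1 := hS _ (hc g⁻¹ (P.inv_mem hg)) w (hW hw)
    have h2 : g * (w * (g⁻¹ * r * g⁻¹⁻¹)) * g⁻¹ = g * ((g⁻¹ * r * g⁻¹⁻¹) * w) * g⁻¹ := by rw [h1]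
    calc g * w * g⁻¹ * r = g * (w * (g⁻¹ * r * g⁻¹⁻¹)) * g⁻¹ := by group
      _ = g * ((g⁻¹ * r * g⁻¹⁻¹) * w) * g⁻¹ := h2
      _ = r * (g * w * g⁻¹) := by group

/-- CLAIM A. -/
theorem Cl.claim (h : Cl P S MM Q V E F W B L R) {LL : Subgroup G} (hL : L ≤ LL) (hV : LL ≤ V)
    (hS : ∀ g ∈ S, ∀ x ∈ LL, g * x * g⁻¹ ∈ LL)
    (hQ : ∀ u ∈ LL, ∀ c ∈ Q, c * u * c⁻¹ * u⁻¹ ∈ R) (hne : ¬ LL ≤ L) :
    ∃ g ∈ P, (∃ w ∈ W, g⁻¹ * w * g ∉ MM) ∧ ∃ u ∈ LL, g * u * g⁻¹ ∉ E := by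
  by_contra hcon
  push Not at hcon
  -- (1) `[LL^g, B] = 1`
  have h1 : ∀ g ∈ P, (∃ w ∈ W, g⁻¹ * w * g ∉ MM) → ∀ u ∈ LL, ∀ w ∈ W,
      (g⁻¹ * w * g) * u * (g⁻¹ * w * g)⁻¹ ∈ LL := by
    rintro g hg ⟨w₀, hw₀, hM⟩ u hu w hw
    have hE : g * u * g⁻¹ ∈ E := hcon g hg ⟨w₀, hw₀, hM⟩ u hu
    have hx : g * u * g⁻¹ ∈ V := h.V_norm g hg u (hV hu)
    have hB : ∀ b ∈ B, b * (g * u * g⁻¹) = (g * u * g⁻¹) * b := by
      intro b hb
      have hF := h.EW _ hE b (h.B_W hb)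
      have hc : g⁻¹ * b * g ∈ Q := by
        have := h.Q_norm g⁻¹ (P.inv_mem hg) b (h.B_Q hb)
        rwa [inv_inv] at this
      have hR := hQ u hu _ hc
      have hr1 : (g⁻¹ * b * g) * u * (g⁻¹ * b * g)⁻¹ * u⁻¹ = 1 := by
        refine h.R_free g⁻¹ (P.inv_mem hg) ⟨w₀, hw₀, by rwa [inv_inv]⟩ _ hR ?_
        intro w' hw'
        have e := h.FW _ hF w' hw'
        have e2 : g⁻¹ * (w' * (b * (g * u * g⁻¹) * b⁻¹ * (g * u * g⁻¹)⁻¹)) * g
          = g⁻¹ * ((b * (g * u * g⁻¹) * b⁻¹ * (g * u * g⁻¹)⁻¹) * w') * g := by rw [e]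
        calc g⁻¹ * w' * g⁻¹⁻¹ * ((g⁻¹ * b * g) * u * (g⁻¹ * b * g)⁻¹ * u⁻¹)
            = g⁻¹ * (w' * (b * (g * u * g⁻¹) * b⁻¹ * (g * u * g⁻¹)⁻¹)) * g := by group
          _ = g⁻¹ * ((b * (g * u * g⁻¹) * b⁻¹ * (g * u * g⁻¹)⁻¹) * w') * g := e2
          _ = (g⁻¹ * b * g) * u * (g⁻¹ * b * g)⁻¹ * u⁻¹ * (g⁻¹ * w' * g⁻¹⁻¹) := by group
      have e3 : b * (g * u * g⁻¹) * b⁻¹ * (g * u * g⁻¹)⁻¹ = 1 := by
        calc b * (g * u * g⁻¹) * b⁻¹ * (g * u * g⁻¹)⁻¹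
            = g * ((g⁻¹ * b * g) * u * (g⁻¹ * b * g)⁻¹ * u⁻¹) * g⁻¹ := by group
          _ = 1 := by rw [hr1]; group
      have e4 := mul_inv_eq_one.mp e3
      exact mul_inv_eq_iff_eq_mul.mp e4
    obtain ⟨l, hl, f, hf, hlf⟩ := h.a _ hx hB
    have e5 : w * (g * u * g⁻¹) * w⁻¹ * (g * u * g⁻¹)⁻¹ = (w * l * w⁻¹) * l⁻¹ := by
      rw [hlf]
      have := h.FW f hf w hw
      calc w * (l * f) * w⁻¹ * (l * f)⁻¹ = w * l * (f * w⁻¹ * f⁻¹) * l⁻¹ := by group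
        _ = w * l * w⁻¹ * l⁻¹ := by
          have : f * w⁻¹ * f⁻¹ = w⁻¹ := by
            calc f * w⁻¹ * f⁻¹ = w⁻¹ * (w * f) * w⁻¹ * f⁻¹ := by group
              _ = w⁻¹ * (f * w) * w⁻¹ * f⁻¹ := by rw [this]
              _ = w⁻¹ := by group
          rw [this]
    have e6 : w * (g * u * g⁻¹) * w⁻¹ * (g * u * g⁻¹)⁻¹ ∈ L := by
      rw [e5]
      exact L.mul_mem (h.L_norm w (h.W_le hw) l hl) (L.inv_mem hl)
    have e7 : (g⁻¹ * w * g) * u * (g⁻¹ * w * g)⁻¹ * u⁻¹ ∈ L := by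
      have := h.L_norm g⁻¹ (P.inv_mem hg) _ e6
      have e8 : g⁻¹ * (w * (g * u * g⁻¹) * w⁻¹ * (g * u * g⁻¹)⁻¹) * g⁻¹⁻¹
        = (g⁻¹ * w * g) * u * (g⁻¹ * w * g)⁻¹ * u⁻¹ := by group
      rwa [e8] at this
    have := LL.mul_mem (hL e7) hu
    simpa [mul_assoc] using this
  -- (2) `P` normalises `LL`
  have hPN : ∀ p ∈ P, ∀ u ∈ LL, p * u * p⁻¹ ∈ LL := by
    let N : Subgroup G :=
      { carrier := {p | p ∈ P ∧ (∀ u ∈ LL, p * u * p⁻¹ ∈ LL) ∧ ∀ u ∈ LL, p⁻¹ * u * p ∈ LL}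
        mul_mem' := by
          rintro a b ⟨ha, ha1, ha2⟩ ⟨hb, hb1, hb2⟩
          refine ⟨P.mul_mem ha hb, fun u hu => ?_, fun u hu => ?_⟩
          · have := ha1 _ (hb1 u hu)
            have e : a * (b * u * b⁻¹) * a⁻¹ = a * b * u * (a * b)⁻¹ := by group
            rwa [e] at this
          · have := hb2 _ (ha2 u hu)
            have e : b⁻¹ * (a⁻¹ * u * a) * b = (a * b)⁻¹ * u * (a * b) := by group
            rwa [e] at this
        one_mem' := ⟨P.one_mem, fun u hu => by simpa using hu, fun u hu => by simpa using hu⟩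
        inv_mem' := by
          rintro a ⟨ha, ha1, ha2⟩
          exact ⟨P.inv_mem ha, fun u hu => by simpa using ha2 u hu,
            fun u hu => by simpa using ha1 u hu⟩ }
    have hle : P ≤ N := by
      refine h.max N ?_ ?_ ?_
      · intro s hs
        refine ⟨h.S_le hs, hS s hs, fun u hu => ?_⟩
        have := hS s⁻¹ (S.inv_mem hs) u hu
        simpa using this
      · rintro x ⟨hx, -, -⟩
        exact hx
      · intro hN
        obtain ⟨g, hg, w, hw, hwM⟩ := h.move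
        refine hwM (hN ⟨P.mul_mem (P.mul_mem hg (h.W_le hw)) (P.inv_mem hg), ?_, ?_⟩)
        · intro u hu
          have := h1 g⁻¹ (P.inv_mem hg) ⟨w, hw, by simpa using hwM⟩ u hu w hw
          simpa using this
        · intro u hu
          have := h1 g⁻¹ (P.inv_mem hg) ⟨w, hw, by simpa using hwM⟩ u hu w⁻¹ (W.inv_mem hw)
          have e : (g⁻¹⁻¹ * w⁻¹ * g⁻¹) * u * (g⁻¹⁻¹ * w⁻¹ * g⁻¹)⁻¹
            = (g * w * g⁻¹)⁻¹ * u * (g * w * g⁻¹) := by group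
          rwa [e] at this
    intro p hp u hu
    exact (hle hp).2.1 u hu
  -- (3) `Q` centralises `LL`
  apply hne
  intro u hu
  refine h.b u (hV hu) ?_
  intro c hc
  have hr : c * u * c⁻¹ * u⁻¹ = 1 := by
    refine h.R_int _ (hQ u hu c hc) ?_
    intro p hp
    have := hQ (p * u * p⁻¹) (hPN p hp u hu) (p * c * p⁻¹) (h.Q_norm p hp c hc)
    have e : (p * c * p⁻¹) * (p * u * p⁻¹) * (p * c * p⁻¹)⁻¹ * (p * u * p⁻¹)⁻¹
      = p * (c * u * c⁻¹ * u⁻¹) * p⁻¹ := by group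
    rwa [e] at this
  exact mul_inv_eq_iff_eq_mul.mp (mul_inv_eq_one.mp hr)

end Cfsg.Agent.Omega.NO3S.BetaFF.ClaimA

end

-- merged: Cfsg.Agent.Mrg.Omega.NO3S.BetaFF.ActClaim
section

section


/-!
# GammaFF, BETA for FF lines: CLAIM A for all FF types (helper284 #19509 (1), helper569 #19664)

* `Act.exists_cb` : the data `ClaimA.Cb` of CLAIM A, `MM` the maximal subgroup of `P` over `S`;
* `Act.claimA` : `L ≤ LL ≤ V`, `S` normalises `LL`, `[LL, O₂(P)] ≤ Z`, `LL ≰ L` ⟹ some `LL^g ≰ E`, `g ∈ P`.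
-/

set_option autoImplicit false
set_option linter.unusedSectionVars false

namespace Cfsg.Agent.Omega.NO3S.BetaFF

open Subgroup Cfsg Cfsg.Agent.ZN Cfsg.Agent.Omega.MinPar Cfsg.Agent.Omega.FFThm
open Cfsg.Agent.Omega.NOne
open Cfsg.Agent.Omega.NOne.NearFF (c c_def)
open Cfsg.Agent.Omega.FrameFF (cv)
open Cfsg.Agent.MinSimple.VModule (oddGen oddGen_le)
open scoped Pointwise

universe u

variable {G : Type u} [Group G] [Finite G]

namespace Act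

variable {S : Sylow 2 G} {P V F : Subgroup G} (h : Act S P V F)
include h

/-- Some conjugate of `W` is not contained in the maximal subgroup `MM` of `P` over `S`. -/
theorem exists_move {MM : Subgroup G} (hMP : MM < P)
    (hmax : ∀ K : Subgroup G, (S : Subgroup G) ≤ K → K < P → K ≤ MM) : ∃ g ∈ P, ∃ w ∈ Flat.WW V F, g * w * g⁻¹ ∉ MM := by
  by_contra hcon
  push Not at hcon
  let N : Subgroup G := closure {x | ∃ g ∈ P, ∃ w ∈ Flat.WW V F, x = g * w * g⁻¹}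
  have hNM : N ≤ MM := by
    rw [closure_le]
    rintro x ⟨g, hg, w, hw, rfl⟩
    exact hcon g hg w hw
  have hNn : P ≤ normalizer (N : Set G) := by
    have key : ∀ g ∈ P, ∀ x ∈ N, g * x * g⁻¹ ∈ N := by
      intro g hg x hx
      induction hx using closure_induction with
      | mem y hy =>
        obtain ⟨k, hk, w, hw, rfl⟩ := hy
        exact subset_closure ⟨g * k, mul_mem hg hk, w, hw, by group⟩
      | one => rw [mul_one, mul_inv_cancel]; exact one_mem _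
      | mul y z _ _ hy hz =>
        have e : g * (y * z) * g⁻¹ = (g * y * g⁻¹) * (g * z * g⁻¹) := by group
        rw [e]; exact mul_mem hy hz
      | inv y _ hy =>
        have e : g * y⁻¹ * g⁻¹ = (g * y * g⁻¹)⁻¹ := by group
        rw [e]; exact inv_mem hy
    intro g hg
    rw [mem_normalizer_iff]
    intro x
    refine ⟨key g hg x, fun hx => ?_⟩
    have h1 := key g⁻¹ (inv_mem hg) _ hx
    have e : g⁻¹ * (g * x * g⁻¹) * g⁻¹⁻¹ = x := by group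
    rwa [e] at h1
  have hSM : (S : Subgroup G) ≤ MM := hmax _ le_rfl (lt_of_le_of_ne h.SP h.par.toIsMinPar.ne)
  rcases h.par.toIsPar.sup_eq_or_inf_le S (hNM.trans hMP.le) hNn with h1 | h1
  · exact absurd (h1 ▸ sup_le hNM hSM : P ≤ MM) (not_le_of_gt hMP)
  · apply h.mov
    intro w hw
    have h2 : w ∈ o2 P := h1 ⟨h.WS hw, subset_closure ⟨1, one_mem _, w, hw, by group⟩⟩
    rw [← h.o2_eq] at h2
    exact h2.2

/-- The data of CLAIM A. -/
theorem exists_cb (hFF : StmtM.{u}) : ∃ MM : Subgroup G, MM < P ∧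
    (∀ K : Subgroup G, (S : Subgroup G) ≤ K → K < P → K ≤ MM) ∧
      ClaimA.Cb P (S : Subgroup G) MM (o2 P) V (Flat.EE V F) F (Flat.WW V F) (BB V F (zl (S : Subgroup G) P))
        (zl (S : Subgroup G) P) := by
  obtain ⟨MM, hMP, hmax⟩ := h.par.toIsMinPar.exists_max
  refine ⟨MM, hMP, hmax, ?_⟩
  have hno : ∀ {X : Subgroup G}, P ≤ normalizer (X : Set G) → ∀ g ∈ P, ∀ x ∈ X, g * x * g⁻¹ ∈ X :=
    fun hX g hg x hx => (mem_normalizer_iff.1 (hX hg) x).1 hx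
  exact
    { S_le := h.SP
      max := fun H hSH hHP hHM => by
        by_contra hcon
        exact hHM (hmax H hSH (lt_of_le_not_ge hHP hcon))
      W_le := h.WP
      move := h.exists_move hMP hmax
      Q_norm := hno (le_normalizer_o2 P)
      V_norm := hno h.PV
      L_norm := hno h.PL
      L_le := h.LV
      EW := fun e he w hw => by
        have h1 := inv_mem (h.hyp.comm_EW he hw)
        rw [c_def] at h1
        have e1 : (e * w * e⁻¹ * w⁻¹)⁻¹ = w * e * w⁻¹ * e⁻¹ := by group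
        rwa [e1] at h1
      FW := fun f hf w hw => h.BB_comm_F hw hf
      B_Q := h.BB_le_o2
      B_W := inf_le_left
      a := fun x hx hb => by
        have h1 : x ∈ V ⊓ centralizer (BB V F (zl (S : Subgroup G) P) : Set G) :=
          ⟨hx, mem_centralizer_iff.2 hb⟩
        rw [h.cent_VB hFF] at h1
        have hn : zl (S : Subgroup G) P ≤ normalizer (F : Set G) :=
          (h.LV.trans (h.hyp.comm.trans (centralizer_le h.hyp.F_le_V))).trans (centralizer_le_normalizer _)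
        rw [← SetLike.mem_coe, coe_mul_of_left_le_normalizer_right _ _ hn] at h1
        obtain ⟨l, hl, f, hf, rfl⟩ := h1
        exact ⟨l, hl, f, hf, rfl⟩
      b := fun x hx hc => by
        have h1 : x ∈ CQ P V := ⟨hx, mem_centralizer_iff.2 hc⟩
        rwa [h.cent_VQ hFF] at h1 }

/-- `C_Z(P) = 1` -/
theorem zc_free {z : G} (hz : z ∈ zc (S : Subgroup G)) (hP : ∀ p ∈ P, p * z = z * p) : z = 1 := by
  have h1 : z ∈ FrameFF.cv (S : Subgroup G) P := by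
    exact ⟨MinSimple.VModule.zc_le_zl (S : Subgroup G) P hz, mem_centralizer_iff.2 fun p hp => hP p (oddGen_le P hp)⟩
  rw [h.cv] at h1
  exact mem_bot.1 h1

/-- **CLAIM A** for all FF types. -/
theorem claimA (hFF : StmtM.{u}) {LL : Subgroup G} (hL : zl (S : Subgroup G) P ≤ LL) (hV : LL ≤ V)
    (hS : ∀ g ∈ (S : Subgroup G), ∀ x ∈ LL, g * x * g⁻¹ ∈ LL)
    (hQ : ∀ u ∈ LL, ∀ q ∈ o2 P, q * u * q⁻¹ * u⁻¹ ∈ zc (S : Subgroup G)) (hne : ¬ LL ≤ zl (S : Subgroup G) P) :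
    ∃ g ∈ P, ∃ u ∈ LL, g * u * g⁻¹ ∉ Flat.EE V F := by
  obtain ⟨MM, hMP, hmax, hcb⟩ := h.exists_cb hFF
  have hcl := hcb.of_center (R := zc (S : Subgroup G)) h.WS
    (fun z hz s hs => (mem_zc.1 hz).2.1 s hs) (fun z hz hp => h.zc_free hz hp)
  obtain ⟨g, hg, -, u, hu, hgu⟩ := hcl.claim hL hV hS hQ hne
  exact ⟨g, hg, u, hu, hgu⟩

end Act

end Cfsg.Agent.Omega.NO3S.BetaFF

end

section


/-!
# GammaFF, BETA for FF lines: `Act` from `Hyp S P` (leaf NO-3S)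

* `zc_le_F` : `W_F ≤ S`, `Z ≤ V` ⟹ `Z ≤ F`;
* `le_EE_of_low` : `X ≤ V`, `X ≤ O₂(C_G(Z))`, `Z ≤ F` ⟹ `X ≤ E_F`;
* `Act.of_hyp` : `Hyp S P`, `V_P ≤ V`, `P ≤ N(V)`, `Flat.Hyp V F`, `W_F ≤ S`, `W_F ≰ O₂(P)` ⟹ `Act S P V F`.
-/

set_option autoImplicit false
set_option linter.unusedSectionVars false

namespace Cfsg.Agent.Omega.NO3S.BetaFF

open Subgroup Cfsg Cfsg.Agent.ZN Cfsg.Agent.Omega.MinPar Cfsg.Agent.Omega.FFThm Cfsg.Agent.Omega.FrameNOFF
open Cfsg.Agent.Omega.NOne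
open scoped Pointwise

universe u

variable {G : Type u} [Group G] [Finite G] {S : Sylow 2 G} {P V F : Subgroup G}

/-- `Z ≤ C_V(W_F) = F` if `W_F ≤ S`. -/
theorem zc_le_F (hf : Flat.Hyp V F) (hZ : zc (S : Subgroup G) ≤ V) (hW : Flat.WW V F ≤ (S : Subgroup G)) :
    zc (S : Subgroup G) ≤ F := by
  rw [← hf.cent_VW]
  refine le_inf hZ fun z hz => mem_centralizer_iff.2 fun w hw => ?_
  exact (ZN.mem_zc.1 hz).2.1 w (hW hw)

/-- A subgroup of `V` in `O₂(C_G(D))`, `D ≤ F`, is in `E_F`. -/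
theorem le_EE_of_low (hf : Flat.Hyp V F) {X D : Subgroup G} (hX : X ≤ V) (hD : D ≤ F)
    (hlow : X ≤ o2 (centralizer (D : Set G))) : X ≤ Flat.EE V F := by
  refine le_inf hX fun x hx => ?_
  have h1 : centralizer (F : Set G) ≤ centralizer (D : Set G) := centralizer_le hD
  exact Flat.o2_inf_le_o2 h1 ⟨hlow hx, hf.V_le_X (hX hx)⟩

/-- `Act S P V F` from the hypotheses of the leaf. -/
theorem Act.of_hyp (h : Hyp S P) (hf : Flat.Hyp V F) (hLV : zl (S : Subgroup G) P ≤ V)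
    (hPV : P ≤ normalizer (V : Set G)) (hW : Flat.WW V F ≤ (S : Subgroup G)) (hm : ¬ Flat.WW V F ≤ o2 P) :
    Act S P V F := by
  have hZV : zc (S : Subgroup G) ≤ V := (MinSimple.VModule.zc_le_zl (S : Subgroup G) P).trans hLV
  have hZF := zc_le_F hf hZV hW
  have hlow : zl (S : Subgroup G) P ≤ o2 (CZ (S : Subgroup G)) :=
    zl_le_o2_of_comm h.ctx h.star h.geo.W_comm
  exact
    { char2 := h.ctx.char2
      par := h.star
      cv := h.cen
      hyp := hf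
      PV := hPV
      LE := le_EE_of_low hf hLV hZF hlow
      WS := hW
      mov := fun h1 => hm (by
        rw [← h.star.inf_centralizer S h.ctx.char2]
        exact le_inf hW h1)
      lines := fun x hx => by
        have h1 : MulAut.conj x • zl (S : Subgroup G) P ≤ WW (S : Subgroup G) P :=
          conj_zl_le_WW (centralizer_le hZF hx)
        have h2 : zl (S : Subgroup G) P ≤ WW (S : Subgroup G) P := zl_le_WW
        exact (h2.trans h.geo.W_comm).trans (centralizer_le h1) }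

end Cfsg.Agent.Omega.NO3S.BetaFF

end

end
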