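import Cfsg.Agent.Mrg.Omega.Spread.ElatOf
import Cfsg.Agent.Mrg.Omega.NO3S.Fld.Mods
import Cfsg.Agent.Mrg.Omega.NOne.LemmaT
import Cfsg.Agent.Mrg.Omega.NO3S.Fld.UniqB
import Cfsg.Agent.Mrg.Omega.NO3S.BetaFF.Act
import Cfsg.Agent.Mrg.Omega.NO3S.Fld.LevBR
import Cfsg.Agent.Mrg.Omega.NOne.Flat.Conj
import Cfsg.Agent.Mrg.Omega.NO3S.BetaFF.SupNat
import Cfsg.Agent.Mrg.Omega.NO3S.BetaFF.EndB
import Cfsg.Agent.Mrg.Omega.NOne.Flat.OffMod
import Cfsg.Agent.Mrg.Omega.NO3S.BetaFF.ActClaim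

-- merged: Cfsg.Agent.Mrg.Omega.NO3S.BetaFF.Frame
section

section


/-!
# THEOREM BETA-FF(1) (helper284 #19171): the frame

`F` a maximal bad subgroup of `V`, `E = V ∩ O₂(C_G(F))`, `W = W_F`, `N = C_W(E)` (THEOREM FLAT); `L ≤ V` a natural
`SL₂(r)`-module of `P` (adapted coordinates `M : Crd K S P L`), `R` the root line of `L` (`R = Z` if `S` induces no
field automorphism), `W ≤ C_S(R)` moves `L`, `Q = C_S(L)`, `B₁ = C_W(L)`; `U` an abelian group which contains `L`, normalised by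
`C_G(R)`, in `O₂(C_G(R))` (the group generated by the lines on `R`).
-/

set_option autoImplicit false

namespace Cfsg.Agent.Omega.BetaFF

open Subgroup Cfsg Cfsg.Agent.Omega.NOne.Flat Cfsg.Agent.Omega.NO3S.Fld
open Cfsg.Agent.Omega.NOne.NearFF (c c_def)
open Cfsg.Agent.ZN (o2)
open scoped Pointwise

universe u

set_option maxHeartbeats 400000

/-- **The frame of BETA-FF(1).** `K` the field of `r` elements; `M.R` is the root line `R` (`= Z` without field
automorphisms). -/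
structure Fr (K : Type*) [Field K] {G : Type u} [Group G] [Finite G] (S : Sylow 2 G) (P V F L U : Subgroup G) where
  hyp : NOne.Flat.Hyp V F
  SP : (S : Subgroup G) ≤ P
  /-- `V` is `P`-invariant -/
  PV : P ≤ normalizer (V : Set G)
  PL : P ≤ normalizer (L : Set G)
  LV : L ≤ V
  M : Crd K (S : Subgroup G) P L
  /-- `W ≤ S` -/
  WS : WW V F ≤ (S : Subgroup G)
  /-- `W` induces no field automorphism -/
  WR : WW V F ≤ centralizer (M.R : Set G)
  /-- `W` moves `L` -/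
  mv : ¬ WW V F ≤ centralizer (L : Set G)
  /-- `C_S(L) = O₂(P)` -/
  PQ : P ≤ normalizer (((S : Subgroup G) ⊓ centralizer (L : Set G) : Subgroup G) : Set G)
  LU : L ≤ U
  Ucomm : U ≤ centralizer (U : Set G)
  Uo2 : U ≤ o2 (centralizer (M.R : Set G))
  UN : centralizer (M.R : Set G) ≤ normalizer (U : Set G)

namespace Fr

variable {K : Type*} [Field K] {G : Type u} [Group G] [Finite G] {S : Sylow 2 G} {P V F L U : Subgroup G}

/-- `Q = C_S(L)` -/
abbrev Q (_h : Fr K S P V F L U) : Subgroup G := (S : Subgroup G) ⊓ centralizer (L : Set G)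

/-- `B₁ = C_W(L)` -/
abbrev B1 (_h : Fr K S P V F L U) : Subgroup G := WW V F ⊓ centralizer (L : Set G)

variable (h : Fr K S P V F L U)
include h

theorem R_le_L : h.M.R ≤ L := h.M.R_le

theorem R_le_V : h.M.R ≤ V := h.M.R_le.trans h.LV

theorem B1_le_Q : h.B1 ≤ h.Q := inf_le_inf_right _ h.WS

theorem B1_le_W : h.B1 ≤ WW V F := inf_le_left

/-- `R ≤ F` -/
theorem R_le_F : h.M.R ≤ F := by
  refine (le_inf h.R_le_V ?_).trans h.hyp.cent_VW.le
  intro z hz
  rw [mem_centralizer_iff]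
  intro w hw
  exact (mem_centralizer_iff.1 (h.WR hw) z hz).symm

theorem CF_le_CR : centralizer (F : Set G) ≤ centralizer (h.M.R : Set G) := centralizer_le h.R_le_F

/-- `V ∩ U ≤ E` -/
theorem VU_le_E : V ⊓ U ≤ EE V F := by
  refine le_inf inf_le_left ?_
  have h1 : V ⊓ U ≤ o2 (centralizer (h.M.R : Set G)) ⊓ centralizer (F : Set G) :=
    le_inf (inf_le_right.trans h.Uo2) (inf_le_left.trans h.hyp.V_le_X)
  refine h1.trans ?_
  refine MinSimple.VModule.le_o2 inf_le_right ((ZN.isPGroup_o2 _).to_le inf_le_left) ?_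
  intro x hx
  have h2 := MinSimple.VModule.le_normalizer_o2 (centralizer (h.M.R : Set G)) (h.CF_le_CR hx)
  have h3 : x ∈ normalizer (centralizer (F : Set G) : Set G) := Subgroup.le_normalizer hx
  rw [mem_normalizer_iff] at h2 h3 ⊢
  intro y
  rw [mem_inf, mem_inf, ← h2 y, ← h3 y]

theorem L_le_VU : L ≤ V ⊓ U := le_inf h.LV h.LU

theorem L_le_E : L ≤ EE V F := h.L_le_VU.trans h.VU_le_E

/-- `L ∩ F = R` -/
theorem L_inf_F : L ⊓ F = h.M.R := by
  apply le_antisymm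
  · rintro v ⟨hvL, hvF⟩
    obtain ⟨w, hw, hwL⟩ := SetLike.not_le_iff_exists.1 h.mv
    have hwX : w ∈ centralizer (F : Set G) := NOne.Flat.Hyp.W_le_X (V := V) (F := F) hw
    exact h.M.fix (h.WS hw) (h.WR hw) hwL hvL (NOne.Flat.Hyp.F_comm hvF hwX).symm
  · exact le_inf h.R_le_L h.R_le_F

theorem L_inf_CW : L ⊓ centralizer (WW V F : Set G) = h.M.R := by
  rw [← h.L_inf_F]
  apply le_antisymm
  · exact le_inf inf_le_left ((inf_le_inf_right _ h.LV).trans h.hyp.cent_VW.le)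
  · exact le_inf inf_le_left (inf_le_right.trans (h.hyp.cent_VW.ge.trans inf_le_right))

end Fr

end Cfsg.Agent.Omega.BetaFF

end

section


/-!
# THEOREM BETA-FF(1) (helper284 #19171), section (0)

`r = |K|`.  `W` induces every root element on `L` (`exists_act`), `|W : B₁| = r`, `C_E(B₁) = C_V(B₁) = L F`,
`L^x ≤ B₁`, `L^x ∩ N = R` for bad `x ∈ C_G(F)`, and ISOTROPY `|Y : Y ∩ F|² ≤ |W : N|` for `Y = V ∩ U`.
-/

set_option autoImplicit false

namespace Cfsg.Agent.Omega.BetaFF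

open Subgroup Cfsg Cfsg.Agent.Omega.NOne.Flat Cfsg.Agent.Omega.NO3S.Fld
open Cfsg.Agent.Omega.NOne.NearFF (c c_def)
open Cfsg.Agent.ZN (o2)
open scoped Pointwise

universe u

namespace Fr

variable {K : Type*} [Field K] {G : Type u} [Group G] [Finite G] {S : Sylow 2 G} {P V F L U : Subgroup G}
  (h : Fr K S P V F L U)
include h

theorem finK : Finite K := by
  refine Finite.of_injective (fun a : K => h.M.e ![a, 0]) fun a b hab => ?_
  have := congrFun (h.M.e_inj hab) 0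
  simpa using this

theorem card_pos : 0 < Nat.card K := by
  have := h.finK
  exact Nat.card_pos

theorem one_lt_card : 1 < Nat.card K := by
  have := h.finK
  exact Finite.one_lt_card

theorem relIndex_R_L : h.M.R.relIndex L = Nat.card K := by
  have h1 := card_mul_relIndex' h.M.R_le
  rw [h.M.card_R, h.M.card_V] at h1
  exact Nat.eq_of_mul_eq_mul_left h.card_pos h1

theorem exists_root {w : G} (hw : w ∈ WW V F) : ∃ a, h.M.Act w (RingEquiv.refl K) a :=
  h.M.exists_root (h.WS hw) (h.WR hw)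

/-- the root parameter of `w ∈ W` -/
noncomputable def par : WW V F →* Multiplicative K where
  toFun w := Multiplicative.ofAdd (h.exists_root w.2).choose
  map_one' := by
    have h1 := (h.exists_root (one_mem (WW V F))).choose_spec
    have h2 := (h1.unique Crd.act_one').2
    exact congrArg Multiplicative.ofAdd h2
  map_mul' a b := by
    have h1 := (h.exists_root (a * b).2).choose_spec
    have ha := (h.exists_root a.2).choose_spec
    have hb := (h.exists_root b.2).choose_spec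
    have h2 := (h1.unique (ha.mul hb)).2
    exact congrArg Multiplicative.ofAdd h2

theorem act_par (w : WW V F) : h.M.Act (w : G) (RingEquiv.refl K) (h.par w).toAdd :=
  (h.exists_root w.2).choose_spec

theorem ker_par : h.par.ker = (centralizer (L : Set G)).subgroupOf (WW V F) := by
  ext w
  rw [MonoidHom.mem_ker, mem_subgroupOf, (h.act_par w).mem_centV]
  constructor
  · intro h1
    exact ⟨rfl, by rw [h1]; rfl⟩
  · rintro ⟨-, h1⟩
    exact Multiplicative.toAdd.injective h1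

/-- `r ≤ |W : C_W(L)|` -/
theorem le_relIndex : Nat.card K ≤ (centralizer (L : Set G)).relIndex (WW V F) := by
  have h1 := h.hyp.off_of_le_all h.L_le_E
  rw [← inf_relIndex_left, h.L_inf_CW, h.relIndex_R_L] at h1
  exact h1

theorem par_surj : Function.Surjective h.par := by
  have := h.finK
  rw [← MonoidHom.range_eq_top]
  have h1 : Nat.card h.par.range = (centralizer (L : Set G)).relIndex (WW V F) := by
    rw [← Subgroup.index_ker, h.ker_par]
    rfl
  refine Subgroup.eq_top_of_le_card _ ?_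
  rw [h1]
  exact h.le_relIndex

/-- **(0)** `W` induces the full root group on `L`. -/
theorem exists_act (a : K) : ∃ w ∈ WW V F, h.M.Act w (RingEquiv.refl K) a := by
  obtain ⟨w, hw⟩ := h.par_surj (Multiplicative.ofAdd a)
  refine ⟨w, w.2, ?_⟩
  have := h.act_par w
  rwa [hw] at this

theorem relIndex_cent : (centralizer (L : Set G)).relIndex (WW V F) = Nat.card K := by
  have h1 : Nat.card h.par.range = (centralizer (L : Set G)).relIndex (WW V F) := by
    rw [← Subgroup.index_ker, h.ker_par]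
    rfl
  rw [← h1, MonoidHom.range_eq_top.2 h.par_surj, Nat.card_congr (Subgroup.topEquiv (G := Multiplicative K)).toEquiv]
  rfl

theorem relIndex_B1 : h.B1.relIndex (WW V F) = Nat.card K := by
  have h1 : (WW V F ⊓ centralizer (L : Set G)).relIndex (WW V F) = (centralizer (L : Set G)).relIndex (WW V F) :=
    inf_relIndex_left _ _
  exact h1.trans h.relIndex_cent

/-! ### `C_E(B₁)` -/

theorem L_le_CB1 : L ≤ centralizer (h.B1 : Set G) := by
  intro l hl
  rw [mem_centralizer_iff]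
  exact fun b hb => (mem_centralizer_iff.1 hb.2 l hl).symm

theorem F_le_CB1 : F ≤ centralizer (h.B1 : Set G) := by
  intro f hf
  rw [mem_centralizer_iff]
  intro b hb
  have hbX : b ∈ centralizer (F : Set G) := NOne.Flat.Hyp.W_le_X (V := V) (F := F) hb.1
  exact (mem_centralizer_iff.1 hbX f hf).symm

theorem F_le_CW : F ≤ centralizer (WW V F : Set G) := h.hyp.cent_VW.ge.trans inf_le_right

theorem card_LF : Nat.card ↥(L ⊔ F) = Nat.card K * Nat.card F := by
  have hn : L ≤ normalizer (F : Set G) :=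
    (h.LV.trans h.hyp.V_le_X).trans (centralizer_le_normalizer _)
  have h1 := NOne.Flat.Off.card_sup_mul_inf hn
  rw [h.L_inf_F, h.M.card_R, h.M.card_V] at h1
  have h2 := h.card_pos
  refine Nat.eq_of_mul_eq_mul_right h2 ?_
  rw [h1]
  ring

/-- **(0)** `C_E(B₁) = L F` -/
theorem cent_E : EE V F ⊓ centralizer (h.B1 : Set G) = L ⊔ F := by
  symm
  have hle : L ⊔ F ≤ EE V F ⊓ centralizer (h.B1 : Set G) :=
    sup_le (le_inf h.L_le_E h.L_le_CB1) (le_inf h.hyp.F_le_E h.F_le_CB1)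
  refine Subgroup.eq_of_le_of_card_ge hle ?_
  set Y : Subgroup G := EE V F ⊓ centralizer (h.B1 : Set G) with hY
  have hFY : F ≤ Y := le_sup_right.trans hle
  have h1 := h.hyp.off_of_le_all (inf_le_left : Y ≤ EE V F)
  have h2 : (centralizer (WW V F : Set G)).relIndex Y = F.relIndex Y := by
    rw [← inf_relIndex_right]
    congr 1
    apply le_antisymm
    · rintro y ⟨hy, hyY⟩
      exact h.hyp.cent_VW.le ⟨hyY.1.1, hy⟩
    · exact le_inf h.F_le_CW hFY
  have h3 : (centralizer (Y : Set G)).relIndex (WW V F) ≤ Nat.card K := by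
    rw [← h.relIndex_B1]
    refine Subgroup.relIndex_le_of_le_left ?_ ?_
    · intro b hb
      rw [mem_centralizer_iff]
      exact fun y hy => (mem_centralizer_iff.1 hy.2 b hb).symm
    · rw [h.relIndex_B1]
      exact h.card_pos.ne'
  rw [h.card_LF, ← card_mul_relIndex' hFY, mul_comm]
  refine Nat.mul_le_mul_right _ ?_
  rw [← h2]
  exact h1.trans h3

/-- `[v, s] ∈ R` for `v ∈ L F`, `s ∈ W` -/
theorem comm_LF {v s : G} (hv : v ∈ L ⊔ F) (hs : s ∈ WW V F) : c v s ∈ h.M.R := by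
  have hn : L ≤ normalizer (F : Set G) :=
    (h.LV.trans h.hyp.V_le_X).trans (centralizer_le_normalizer _)
  rw [← SetLike.mem_coe, coe_mul_of_left_le_normalizer_right L F hn] at hv
  obtain ⟨l, hl, f, hf, rfl⟩ := hv
  have h1 : c (l * f) s = c l s := by
    have h2 := h.hyp.c_mul_left (h.LV hl) (h.hyp.F_le_V hf) hs
    rw [h2, NOne.Flat.Hyp.c_F hf hs, mul_one]
  show c (l * f) s ∈ h.M.R
  rw [h1]
  have h2 := inv_mem (h.M.comm_R (h.WS hs) (h.WR hs) hl)
  have e : c l s = (s * l * s⁻¹ * l⁻¹)⁻¹ := by rw [c]; group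
  rw [e]
  exact h2

/-! ### `L^x` for bad `x` -/

theorem exists_bad : ∃ x ∈ centralizer (F : Set G), BadX V x := by
  obtain ⟨w, hw, hwE⟩ := h.hyp.exists_not_mem
  obtain ⟨x, hx, hb, -⟩ := h.hyp.exists_near hw hwE
  exact ⟨x, hx, hb⟩

theorem conjU {x : G} (hx : x ∈ centralizer (F : Set G)) : MulAut.conj x • U = U :=
  NOne.Flat.conj_eq_of_norm (h.UN (h.CF_le_CR hx))

theorem conjL_le_W {x : G} (hx : x ∈ centralizer (F : Set G)) : MulAut.conj x • L ≤ WW V F :=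
  (Subgroup.pointwise_smul_le_pointwise_smul_iff.2 h.L_le_E).trans (NOne.Flat.Hyp.conjE_le_W hx)

theorem conjL_le_U {x : G} (hx : x ∈ centralizer (F : Set G)) : MulAut.conj x • L ≤ U := by
  have h1 : MulAut.conj x • L ≤ MulAut.conj x • U := Subgroup.pointwise_smul_le_pointwise_smul_iff.2 h.LU
  rwa [h.conjU hx] at h1

/-- `L^x ≤ B₁` -/
theorem conjL_le {x : G} (hx : x ∈ centralizer (F : Set G)) : MulAut.conj x • L ≤ h.B1 :=
  le_inf (h.conjL_le_W hx) ((h.conjL_le_U hx).trans (h.Ucomm.trans (centralizer_le h.LU)))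

theorem conjR {x : G} (hx : x ∈ centralizer (F : Set G)) : MulAut.conj x • h.M.R = h.M.R :=
  NOne.Flat.conj_eq_of_cent (h.CF_le_CR hx)

theorem conjL_inf_F {x : G} (hx : x ∈ centralizer (F : Set G)) : MulAut.conj x • L ⊓ F = h.M.R := by
  have h1 : MulAut.conj x • (L ⊓ F) = MulAut.conj x • h.M.R := by rw [h.L_inf_F]
  rw [h.conjR hx, Subgroup.smul_inf] at h1
  have h2 : MulAut.conj x • F = F := NOne.Flat.conj_eq_of_cent hx
  rw [← h1]
  exact congrArg (fun T => MulAut.conj x • L ⊓ T) h2.symm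

/-- `L^x ∩ N = R` for bad `x` -/
theorem conjL_inf {x : G} (hx : x ∈ centralizer (F : Set G)) (hb : BadX V x) :
    MulAut.conj x • L ⊓ NN V F = h.M.R := by
  apply le_antisymm
  · rintro y ⟨hy, hyN⟩
    rw [← SetLike.mem_coe, ← h.conjL_inf_F hx]
    refine ⟨hy, ?_⟩
    have h1 : y ∈ MulAut.conj x • EE V F ⊓ NN V F :=
      ⟨Subgroup.pointwise_smul_le_pointwise_smul_iff.2 h.L_le_E hy, hyN⟩
    exact (h.hyp.conjE_inf_NN hx hb).le h1
  · refine le_inf ?_ (h.R_le_F.trans h.hyp.F_le_NN)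
    exact (h.conjL_inf_F hx).ge.trans inf_le_left

theorem exists_conjL {x : G} (hx : x ∈ centralizer (F : Set G)) (hb : BadX V x) :
    ∃ l ∈ MulAut.conj x • L, l ∉ NN V F := by
  by_contra hcon
  push Not at hcon
  have h1 : MulAut.conj x • L ≤ h.M.R := (le_inf le_rfl hcon).trans (h.conjL_inf hx hb).le
  have h2 : Nat.card ↥(MulAut.conj x • L) = Nat.card L := Nat.card_congr (Subgroup.equivSMul _ L).toEquiv.symm
  have h3 := Subgroup.card_le_of_le h1
  rw [h2, h.M.card_V, h.M.card_R] at h3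
  have h4 := h.one_lt_card
  nlinarith

/-- **(0)** `C_V(B₁) = L F` -/
theorem cent_V : V ⊓ centralizer (h.B1 : Set G) = L ⊔ F := by
  apply le_antisymm
  · rintro v ⟨hv, hvB⟩
    rw [← SetLike.mem_coe, ← h.cent_E]
    refine ⟨?_, hvB⟩
    by_contra hvE
    obtain ⟨x, hx, hb⟩ := h.exists_bad
    obtain ⟨l, hl, hlN⟩ := h.exists_conjL hx hb
    have hlB := h.conjL_le hx hl
    apply hlN
    rw [← h.hyp.c_mem_F_iff hv hvE hlB.1]
    have h1 : c v l = 1 := by
      rw [c_def, ← mem_centralizer_iff.1 hvB l hlB]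
      group
    rw [h1]
    exact one_mem _
  · exact h.cent_E.ge.trans (inf_le_inf_right _ inf_le_left)

/-! ### ISOTROPY -/

/-- **(0) ISOTROPY** `|Y : Y ∩ F|² ≤ |W : N|` for `Y = V ∩ U`. -/
theorem iso : F.relIndex (V ⊓ U) * F.relIndex (V ⊓ U) ≤ (NN V F).relIndex (WW V F) := by
  obtain ⟨x, hx, hb⟩ := h.exists_bad
  set Y : Subgroup G := V ⊓ U with hY
  have hYE : Y ≤ EE V F := h.VU_le_E
  set C : Subgroup G := WW V F ⊓ centralizer (Y : Set G) with hC
  have hNC : NN V F ≤ C := inf_le_inf_left _ (centralizer_le hYE)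
  have hYx : MulAut.conj x • Y ≤ C := by
    refine le_inf ?_ ?_
    · exact (Subgroup.pointwise_smul_le_pointwise_smul_iff.2 hYE).trans (NOne.Flat.Hyp.conjE_le_W hx)
    · have h1 : MulAut.conj x • Y ≤ MulAut.conj x • U := Subgroup.pointwise_smul_le_pointwise_smul_iff.2 inf_le_right
      rw [h.conjU hx] at h1
      exact h1.trans (h.Ucomm.trans (centralizer_le inf_le_right))
  have h1 := relIndex_mul_relIndex (NN V F) C (WW V F) hNC inf_le_left
  rw [← h1]
  have h2 : F.relIndex Y = (NN V F).relIndex (MulAut.conj x • Y) := by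
    have e1 : (NN V F).relIndex (MulAut.conj x • Y) = F.relIndex (MulAut.conj x • Y) := by
      rw [← inf_relIndex_right (NN V F), ← inf_relIndex_right F]
      congr 1
      apply le_antisymm
      · rintro y ⟨hy, hyY⟩
        have h3 : y ∈ MulAut.conj x • EE V F ⊓ NN V F :=
          ⟨Subgroup.pointwise_smul_le_pointwise_smul_iff.2 hYE hyY, hy⟩
        exact ⟨(h.hyp.conjE_inf_NN hx hb).le h3, hyY⟩
      · exact inf_le_inf_right _ h.hyp.F_le_NN
    have e2 : F.relIndex (MulAut.conj x • Y) = (MulAut.conj x • F).relIndex (MulAut.conj x • Y) := by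
      rw [NOne.Flat.conj_eq_of_cent hx]
    rw [e1, e2, Subgroup.relIndex_pointwise_smul]
  have h3 : (NN V F).relIndex (MulAut.conj x • Y) ≤ (NN V F).relIndex C :=
    Subgroup.relIndex_le_of_le_right hYx Subgroup.index_ne_zero_of_finite
  have h4 : F.relIndex Y ≤ C.relIndex (WW V F) := by
    have h5 := h.hyp.off_of_le_all hYE
    have h6 : (centralizer (WW V F : Set G)).relIndex Y = F.relIndex Y := by
      rw [← inf_relIndex_right, ← inf_relIndex_right F]
      congr 1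
      apply le_antisymm
      · rintro y ⟨hy, hyY⟩
        exact ⟨h.hyp.cent_VW.le ⟨hyY.1, hy⟩, hyY⟩
      · exact inf_le_inf_right _ h.F_le_CW
    have h7 : C.relIndex (WW V F) = (centralizer (Y : Set G)).relIndex (WW V F) := inf_relIndex_left _ _
    rw [h6] at h5
    rw [h7]
    exact h5
  exact Nat.mul_le_mul (h2.le.trans h3) h4

end Fr

end Cfsg.Agent.Omega.BetaFF

end

section


/-!
# THEOREM BETA-FF(1) (helper284 #19171): the points `R^p`, `p ∈ P`, of `L`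
-/

set_option autoImplicit false

namespace Cfsg.Agent.Omega.BetaFF

open Subgroup Cfsg Cfsg.Agent.Omega.NOne.Flat Cfsg.Agent.Omega.NO3S.Fld
open Cfsg.Agent.Omega.NOne.NearFF (c c_def)
open Cfsg.Agent.ZN (o2)
open Cfsg.Agent.Omega.NatPair (ap ap_zero' ap_one' ext2)
open Cfsg.Agent.Lib.SL2Mat
open scoped Pointwise

universe u

/-- `x ∈ H^g ↔ g⁻¹ x g ∈ H` -/
theorem mem_cj {G : Type u} [Group G] {H : Subgroup G} {g x : G} :
    x ∈ MulAut.conj g • H ↔ g⁻¹ * x * g ∈ H := by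
  rw [Subgroup.mem_pointwise_smul_iff_inv_smul_mem, ← map_inv, MulAut.smul_def, MulAut.conj_apply, inv_inv]

theorem cj_mem_cj {G : Type u} [Group G] {H : Subgroup G} {g x : G} (hx : x ∈ H) :
    g * x * g⁻¹ ∈ MulAut.conj g • H := by
  rw [mem_cj]
  have e : g⁻¹ * (g * x * g⁻¹) * g = x := by group
  rwa [e]

theorem card_cj {G : Type u} [Group G] (g : G) (H : Subgroup G) :
    Nat.card ↥(MulAut.conj g • H) = Nat.card H :=
  Nat.card_congr (Subgroup.equivSMul _ H).toEquiv.symm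

namespace Fr

variable {K : Type*} [Field K] {G : Type u} [Group G] [Finite G] {S : Sylow 2 G} {P V F L U : Subgroup G}
  (h : Fr K S P V F L U)
include h

theorem cjL {p : G} (hp : p ∈ P) : MulAut.conj p • L = L := NOne.Flat.conj_eq_of_norm (h.PL hp)

theorem cjV {p : G} (hp : p ∈ P) : MulAut.conj p • V = V := NOne.Flat.conj_eq_of_norm (h.PV hp)

theorem pt_le {p : G} (hp : p ∈ P) : MulAut.conj p • h.M.R ≤ L := by
  have h1 : MulAut.conj p • h.M.R ≤ MulAut.conj p • L := Subgroup.pointwise_smul_le_pointwise_smul_iff.2 h.M.R_le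
  rwa [h.cjL hp] at h1

theorem card_pt (p : G) : Nat.card ↥(MulAut.conj p • h.M.R) = Nat.card K := by
  rw [card_cj, h.M.card_R]

/-- Two different points are disjoint. -/
theorem pt_inf_R {p : G} (hp : p ∈ P) (hne : MulAut.conj p • h.M.R ≠ h.M.R) :
    MulAut.conj p • h.M.R ⊓ h.M.R = ⊥ := by
  rw [eq_bot_iff]
  rintro z ⟨hz, hzR⟩
  rw [mem_bot]
  by_contra hz1
  apply hne
  -- a root element `t`
  obtain ⟨t, htS, htR, ht⟩ := h.M.exists_full 1
  have htL : t ∉ centralizer (L : Set G) := fun hc => one_ne_zero (ht.mem_centV.1 hc).2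
  obtain ⟨B, hB⟩ := h.M.norm p hp t (up 1) (fun x => by
    rw [ht x]
    congr 1
    apply ext2
    · rw [ap_zero', up_00, up_01]; simp
    · rw [ap_one', up_10, up_11]; simp)
  obtain ⟨a, rfl⟩ := hzR
  have ha : a ≠ 0 := by
    rintro rfl
    apply hz1
    rw [← h.M.e_zero]
    congr 1
    apply ext2 <;> simp
  -- `z` commutes with `t^p`
  have hzt : p * t * p⁻¹ * h.M.e ![a, 0] * (p * t * p⁻¹)⁻¹ = h.M.e ![a, 0] := by
    have h1 := mem_centralizer_iff.1 htR _ (mem_cj.1 hz)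
    have h2 := congrArg (fun s => p * s * p⁻¹) h1
    have h3 : h.M.e ![a, 0] * (p * t * p⁻¹) = p * t * p⁻¹ * h.M.e ![a, 0] := by
      simpa [mul_assoc] using h2
    rw [← h3, mul_inv_cancel_right]
  have h4 := h.M.e_inj ((hB _).symm.trans hzt)
  have h5 := congrFun h4 0
  have h6 := congrFun h4 1
  rw [ap_zero'] at h5
  rw [ap_one'] at h6
  simp only [Matrix.cons_val_zero, Matrix.cons_val_one, mul_zero, add_zero] at h5 h6
  have hB0 : ent B 0 0 = 1 := by
    have : ent B 0 0 * a = 1 * a := by rw [h5, one_mul]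
    exact mul_right_cancel₀ ha this
  have hB1 : ent B 1 0 = 0 := (mul_eq_zero.1 h6).resolve_right ha
  -- so `t^p` centralises `R`
  have hle : h.M.R ≤ MulAut.conj p • h.M.R := by
    rintro _ ⟨b, rfl⟩
    have h7 : p * t * p⁻¹ * h.M.e ![b, 0] * (p * t * p⁻¹)⁻¹ = h.M.e ![b, 0] := by
      rw [hB]
      congr 1
      apply ext2
      · rw [ap_zero', hB0]; simp
      · rw [ap_one', hB1]; simp
    rw [mem_cj]
    refine h.M.fix htS htR htL ?_ ?_
    · rw [← mem_cj, h.cjL hp]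
      exact h.M.e_mem _
    · rw [mul_inv_eq_iff_eq_mul] at h7
      have h2 := congrArg (fun s => p⁻¹ * s * p) h7
      simpa [mul_assoc] using h2
  symm
  refine Subgroup.eq_of_le_of_card_ge hle ?_
  rw [h.card_pt, h.M.card_R]

theorem pt_inf_F {p : G} (hp : p ∈ P) (hne : MulAut.conj p • h.M.R ≠ h.M.R) :
    MulAut.conj p • h.M.R ⊓ F = ⊥ := by
  rw [eq_bot_iff, ← h.pt_inf_R hp hne]
  exact le_inf inf_le_left ((inf_le_inf_right _ (h.pt_le hp)).trans h.L_inf_F.le)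

/-- `s ∈ W - C(L)` moves every point `≠ R`, to a disjoint one. -/
theorem pt_move {p s : G} (hp : p ∈ P) (hne : MulAut.conj p • h.M.R ≠ h.M.R) (hs : s ∈ WW V F)
    (hsL : s ∉ centralizer (L : Set G)) {y : G} (hy : y ∈ MulAut.conj p • h.M.R)
    (hy' : s * y * s⁻¹ ∈ MulAut.conj p • h.M.R) : y = 1 := by
  have h1 : s * y * s⁻¹ * y⁻¹ ∈ MulAut.conj p • h.M.R ⊓ h.M.R :=
    ⟨Subgroup.mul_mem _ hy' (Subgroup.inv_mem _ hy), h.M.comm_R (h.WS hs) (h.WR hs) (h.pt_le hp hy)⟩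
  rw [h.pt_inf_R hp hne, mem_bot, mul_inv_eq_one, mul_inv_eq_iff_eq_mul] at h1
  have h2 := h.M.fix (h.WS hs) (h.WR hs) hsL (h.pt_le hp hy) h1
  have h3 : y ∈ MulAut.conj p • h.M.R ⊓ h.M.R := ⟨hy, h2⟩
  rwa [h.pt_inf_R hp hne, mem_bot] at h3

end Fr

end Cfsg.Agent.Omega.BetaFF

end

section


/-!
# THEOREM BETA-FF(1) (helper284 #19171), section (3): the bad facts

`BadAt h w p` : `w ∈ V - E`, `[w, B₁] ≤ R^p ≠ R`, `p ∈ P`.  Then, with `r = |K|`, `x ∈ C_G(F)` bad: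
`V ∩ U ≤ L F`, `|E : F| = |W : N| = r²`, `|B₁ : N| = r`, `B₁ = L^x N`, `[w, L^x] = R^p`, `C_V(L^x) = L F`,
`[E, B₁] ≤ R`, `|V : E| ≤ r`; and `BadAt.of` : (f).
-/

set_option autoImplicit false

namespace Cfsg.Agent.Omega.BetaFF

open Subgroup Cfsg Cfsg.Agent.Omega.NOne.Flat Cfsg.Agent.Omega.NO3S.Fld
open Cfsg.Agent.Omega.NOne.NearFF (c c_def)
open Cfsg.Agent.ZN (o2)
open scoped Pointwise

universe u

variable {K : Type*} [Field K] {G : Type u} [Group G] [Finite G] {S : Sylow 2 G} {P V F L U : Subgroup G}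

/-- **Bad**: `w ∈ V - E`, `[w, B₁] ≤ R^p ≠ R`. -/
structure BadAt (h : Fr K S P V F L U) (w p : G) : Prop where
  wV : w ∈ V
  wE : w ∉ EE V F
  pP : p ∈ P
  ne : MulAut.conj p • h.M.R ≠ h.M.R
  com : ∀ b ∈ h.B1, c w b ∈ MulAut.conj p • h.M.R

namespace Fr

variable (h : Fr K S P V F L U)
include h

theorem NN_le_B1 : NN V F ≤ h.B1 := inf_le_inf_left _ (centralizer_le h.L_le_E)

theorem F_relIndex_L : F.relIndex L = Nat.card K := by
  rw [← h.relIndex_R_L, ← inf_relIndex_left L F, h.L_inf_F]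

theorem NN_relIndex_conjL {x : G} (hx : x ∈ centralizer (F : Set G)) (hb : BadX V x) :
    (NN V F).relIndex (MulAut.conj x • L) = Nat.card K := by
  rw [← inf_relIndex_left (MulAut.conj x • L) (NN V F), h.conjL_inf hx hb, ← h.relIndex_R_L]
  have h1 : h.M.R.relIndex (MulAut.conj x • L) = (MulAut.conj x • h.M.R).relIndex (MulAut.conj x • L) := by
    rw [h.conjR hx]
  rw [h1, Subgroup.relIndex_pointwise_smul]

theorem card_le_LF {Y : Subgroup G} (hY : Y ≤ V) (hYF : F.relIndex Y ≤ Nat.card K) (hLY : L ≤ Y) : Y ≤ L ⊔ F := by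
  have hn : Y ≤ normalizer (F : Set G) := (hY.trans h.hyp.V_le_X).trans (centralizer_le_normalizer _)
  have h1 := NOne.Flat.Off.card_sup_mul_inf hn
  have h2 := card_mul_relIndex' (inf_le_left : Y ⊓ F ≤ Y)
  rw [inf_relIndex_left] at h2
  have h3 : Nat.card ↥(Y ⊔ F) ≤ Nat.card ↥(L ⊔ F) := by
    rw [h.card_LF]
    have h4 : 0 < Nat.card ↥(Y ⊓ F) := Nat.card_pos
    rw [← h2] at h1
    have h5 : Nat.card ↥(Y ⊔ F) = F.relIndex Y * Nat.card F := by
      refine Nat.eq_of_mul_eq_mul_right h4 ?_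
      rw [h1]
      ring
    rw [h5]
    exact Nat.mul_le_mul_right _ hYF
  have h6 : L ⊔ F = Y ⊔ F := Subgroup.eq_of_le_of_card_ge (sup_le_sup_right hLY F) h3
  rw [h6]
  exact le_sup_left

end Fr

namespace BadAt

variable {h : Fr K S P V F L U} {w p : G} (b : BadAt h w p)
include b

theorem F_relIndex_pt : F.relIndex (MulAut.conj p • h.M.R) = Nat.card K := by
  rw [← inf_relIndex_left, h.pt_inf_F b.pP b.ne, relIndex_bot_left, h.card_pt]

theorem cos {A : Subgroup G} (hA : A ≤ h.B1) : Cos (c w) A (NN V F) (MulAut.conj p • h.M.R) F where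
  mem := fun s hs => b.com s (hA hs)
  iff := fun s hs t ht => by
    rw [h.hyp.c_iff b.wV (hA hs).1 (hA ht).1,
      h.hyp.c_mem_F_iff b.wV b.wE (mul_mem (inv_mem (hA hs).1) (hA ht).1)]

theorem relIndex_B1_le : (NN V F).relIndex h.B1 ≤ Nat.card K := by
  rw [← b.F_relIndex_pt]
  exact (b.cos le_rfl).le

/-- `[w, L^x] = R^p` -/
theorem surj {x : G} (hx : x ∈ centralizer (F : Set G)) (hb : BadX V x) {z : G} (hz : z ∈ MulAut.conj p • h.M.R) :
    ∃ l ∈ MulAut.conj x • L, c w l = z := by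
  have h1 := b.cos (h.conjL_le hx)
  obtain ⟨l, hl, h2⟩ := h1.surj (by rw [b.F_relIndex_pt, h.NN_relIndex_conjL hx hb]) hz
  refine ⟨l, hl, ?_⟩
  have h3 : (c w l)⁻¹ * z ∈ MulAut.conj p • h.M.R ⊓ F :=
    ⟨Subgroup.mul_mem _ (Subgroup.inv_mem _ (h1.mem l hl)) hz, h2⟩
  rw [h.pt_inf_F b.pP b.ne, mem_bot, inv_mul_eq_one] at h3
  exact h3

/-- `B₁ = L^x N` -/
theorem B1_eq {x : G} (hx : x ∈ centralizer (F : Set G)) (hb : BadX V x) {s : G} (hs : s ∈ h.B1) :
    ∃ l ∈ MulAut.conj x • L, l⁻¹ * s ∈ NN V F := by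
  obtain ⟨l, hl, h1⟩ := b.surj hx hb (b.com s hs)
  have hlB := h.conjL_le hx hl
  refine ⟨l, hl, ?_⟩
  rw [← (b.cos (A := h.B1) le_rfl).iff l hlB s hs, h1, inv_mul_cancel]
  exact one_mem _

theorem relIndex_B1 : (NN V F).relIndex h.B1 = Nat.card K := by
  refine le_antisymm b.relIndex_B1_le ?_
  obtain ⟨x, hx, hb⟩ := h.exists_bad
  rw [← h.NN_relIndex_conjL hx hb]
  exact Subgroup.relIndex_le_of_le_right (h.conjL_le hx) Subgroup.index_ne_zero_of_finite

/-- `|W : N| = r²` -/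
theorem relIndex_W : (NN V F).relIndex (WW V F) = Nat.card K * Nat.card K := by
  rw [← relIndex_mul_relIndex (NN V F) h.B1 (WW V F) h.NN_le_B1 h.B1_le_W, b.relIndex_B1, h.relIndex_B1]

/-- `|E : F| = r²` -/
theorem relIndex_E : F.relIndex (EE V F) = Nat.card K * Nat.card K := by
  rw [← h.hyp.relIndex_NN, b.relIndex_W]

/-- `V ∩ U ≤ L F` -/
theorem VU_le : V ⊓ U ≤ L ⊔ F := by
  refine h.card_le_LF inf_le_left ?_ h.L_le_VU
  have h1 := h.iso
  rw [b.relIndex_W] at h1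
  by_contra hlt
  push Not at hlt
  have := Nat.mul_lt_mul'' hlt hlt
  omega

/-- `C_V(L^x) = L F` -/
theorem cent_conjL {x : G} (hx : x ∈ centralizer (F : Set G)) (hb : BadX V x) :
    V ⊓ centralizer ((MulAut.conj x • L : Subgroup G) : Set G) = L ⊔ F := by
  apply le_antisymm
  · rintro v ⟨hv, hvL⟩
    have hvE : v ∈ EE V F := by
      obtain ⟨l, hl, hlN⟩ := h.exists_conjL hx hb
      refine h.hyp.mem_E_of_c hv (h.conjL_le hx hl).1 hlN ?_
      have h1 : c v l = 1 := by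
        rw [c_def, ← mem_centralizer_iff.1 hvL l hl]
        group
      rw [h1]
      exact one_mem _
    refine h.cent_E.le (mem_inf.2 ⟨hvE, mem_centralizer_iff.2 ?_⟩)
    intro s hs
    obtain ⟨l, hl, hn⟩ := b.B1_eq hx hb hs
    have h1 := mem_centralizer_iff.1 hvL l hl
    have h2 := mem_centralizer_iff.1 hn.2 v hvE
    calc s * v = l * (l⁻¹ * s * v) := by group
      _ = l * (v * (l⁻¹ * s)) := by rw [h2]
      _ = (l * v) * (l⁻¹ * s) := by group
      _ = v * s := by rw [h1]; group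
  · refine h.cent_V.ge.trans (inf_le_inf_left _ (centralizer_le (h.conjL_le hx)))

/-- **(d)** `[E, B₁] ≤ R` -/
theorem comm_E {e s : G} (he : e ∈ EE V F) (hs : s ∈ h.B1) : c e s ∈ h.M.R := by
  obtain ⟨t, ht, hte⟩ := h.hyp.surj b.wV b.wE he
  have hcV := h.hyp.c_memV b.wV ht
  have h1 : c e s = c (c w t) s := by
    refine h.hyp.c_congr_left he.1 hcV hs.1 ?_
    rw [h.hyp.V_comm (inv_mem he.1) hcV]
    exact hte
  rw [h1, h.hyp.beta_comm b.wV ht hs.1]
  exact h.comm_LF (le_sup_left (a := L) (b := F) (h.pt_le b.pP (b.com s hs))) ht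

/-- **(e)** `|V : E| ≤ r` -/
theorem relIndex_V_le : (EE V F).relIndex V ≤ Nat.card K := by
  obtain ⟨x, hx, hb⟩ := h.exists_bad
  obtain ⟨l, hl, hlN⟩ := h.exists_conjL hx hb
  have hlB := h.conjL_le hx hl
  have hlU := h.conjL_le_U hx hl
  have hcos := h.hyp.cos_V hlB.1 hlN
  have h1 : Cos (fun v => c v l) V (EE V F) (L ⊔ F) F :=
    { mem := fun v hv => by
        refine b.VU_le ⟨h.hyp.c_memV hv hlB.1, ?_⟩
        have hvN : v ∈ normalizer (U : Set G) := h.UN (h.CF_le_CR (h.hyp.V_le_X hv))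
        show c v l ∈ U
        rw [c_def]
        exact mul_mem ((mem_normalizer_iff.1 hvN l).1 hlU) (inv_mem hlU)
      iff := hcos.iff }
  refine h1.le.trans ?_
  have h2 := card_mul_relIndex' (le_sup_right : F ≤ L ⊔ F)
  rw [h.card_LF, mul_comm (Nat.card K)] at h2
  exact (Nat.eq_of_mul_eq_mul_left Nat.card_pos h2).le

end BadAt

namespace Fr

variable (h : Fr K S P V F L U)
include h

/-- If `l ∈ L F` and `[l, Q] ≤ R^p ≠ R` then `[l, Q] = 1`. -/
theorem cent_of_LF {l p : G} (hl : l ∈ L ⊔ F) (hp : p ∈ P) (hne : MulAut.conj p • h.M.R ≠ h.M.R)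
    (hlQ : ∀ s ∈ h.Q, c l s ∈ MulAut.conj p • h.M.R) : l ∈ centralizer (h.Q : Set G) := by
  obtain ⟨s, hs, hsL⟩ := SetLike.not_le_iff_exists.1 h.mv
  have hlV : l ∈ V := sup_le h.LV h.hyp.F_le_V hl
  rw [mem_centralizer_iff]
  intro t ht
  have hsP : s ∈ P := h.SP (h.WS hs)
  have ht' : s⁻¹ * t * s ∈ h.Q := by
    have := (mem_normalizer_iff.1 (h.PQ (inv_mem hsP)) t).1 ht
    rwa [inv_inv] at this
  have h1 := hlQ _ ht'
  -- `s [l, s⁻¹ t s] s⁻¹ = [s l s⁻¹, t] = [l, t]`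
  have hr : s * l * s⁻¹ * l⁻¹ ∈ h.M.R := by
    have h2 := inv_mem (h.comm_LF hl hs)
    have e : s * l * s⁻¹ * l⁻¹ = (c l s)⁻¹ := by rw [c]; group
    rw [e]
    exact h2
  have h3 : s * c l (s⁻¹ * t * s) * s⁻¹ = c l t := by
    have htr : t * (s * l * s⁻¹ * l⁻¹) = s * l * s⁻¹ * l⁻¹ * t :=
      (mem_centralizer_iff.1 ht.2 _ (h.M.R_le hr)).symm
    have htr' : t⁻¹ * (s * l * s⁻¹ * l⁻¹)⁻¹ = (s * l * s⁻¹ * l⁻¹)⁻¹ * t⁻¹ := by
      rw [← mul_inv_rev, ← mul_inv_rev, htr]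
    have e1 : s * c l (s⁻¹ * t * s) * s⁻¹ =
        (s * l * s⁻¹ * l⁻¹) * (l * t * l⁻¹) * ((s * l * s⁻¹ * l⁻¹)⁻¹ * t⁻¹) := by rw [c]; group
    have hltV : l * t * l⁻¹ * (s * l * s⁻¹ * l⁻¹)⁻¹ = (s * l * s⁻¹ * l⁻¹)⁻¹ * (l * t * l⁻¹) := by
      have hrV := h.R_le_V hr
      have e2 : l⁻¹ * (s * l * s⁻¹ * l⁻¹)⁻¹ = (s * l * s⁻¹ * l⁻¹)⁻¹ * l⁻¹ :=
        h.hyp.V_comm (inv_mem hlV) (inv_mem hrV)
      have e3 : t * (s * l * s⁻¹ * l⁻¹)⁻¹ = (s * l * s⁻¹ * l⁻¹)⁻¹ * t := by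
        rw [mul_inv_eq_iff_eq_mul, mul_assoc, htr]; group
      have e4 : l * (s * l * s⁻¹ * l⁻¹)⁻¹ = (s * l * s⁻¹ * l⁻¹)⁻¹ * l := h.hyp.V_comm hlV (inv_mem hrV)
      calc l * t * l⁻¹ * (s * l * s⁻¹ * l⁻¹)⁻¹ = l * t * (l⁻¹ * (s * l * s⁻¹ * l⁻¹)⁻¹) := by group
        _ = l * (t * (s * l * s⁻¹ * l⁻¹)⁻¹) * l⁻¹ := by rw [e2]; group
        _ = (l * (s * l * s⁻¹ * l⁻¹)⁻¹) * t * l⁻¹ := by rw [e3]; group
        _ = (s * l * s⁻¹ * l⁻¹)⁻¹ * (l * t * l⁻¹) := by rw [e4]; group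
    have e5 : (s * l * s⁻¹ * l⁻¹) * (l * t * l⁻¹) * ((s * l * s⁻¹ * l⁻¹)⁻¹ * t⁻¹) =
        (s * l * s⁻¹ * l⁻¹) * ((l * t * l⁻¹) * (s * l * s⁻¹ * l⁻¹)⁻¹) * t⁻¹ := by group
    rw [e1, e5, hltV, c]
    group
  have h4 : c l (s⁻¹ * t * s) = 1 := by
    refine h.pt_move hp hne hs hsL h1 ?_
    rw [h3]
    exact hlQ t ht
  rw [h4, mul_one, mul_inv_cancel] at h3
  rw [c_def, eq_comm, mul_inv_eq_one, mul_inv_eq_iff_eq_mul] at h3
  exact h3.symm

/-- **(f)** `v ∈ V - L`, `[v, C_S(R)] ≤ R`, `R^p ≠ R`: `w = v^p ∉ E` and `[w, B₁] ≤ R^p`, so `BadAt h (v^p) p`. -/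
theorem badAt (hQ : V ⊓ centralizer (h.Q : Set G) ≤ L) {v p : G} (hv : v ∈ V) (hvL : v ∉ L)
    (hvR : ∀ s ∈ h.Q, c v s ∈ h.M.R) (hp : p ∈ P) (hne : MulAut.conj p • h.M.R ≠ h.M.R) :
    BadAt h (p * v * p⁻¹) p := by
  have hlV : p * v * p⁻¹ ∈ V := by
    have := cj_mem_cj (g := p) hv
    rwa [h.cjV hp] at this
  have hlQ : ∀ s ∈ h.Q, c (p * v * p⁻¹) s ∈ MulAut.conj p • h.M.R := by
    intro s hs
    have hs' : p⁻¹ * s * p ∈ h.Q := by
      have := (mem_normalizer_iff.1 (h.PQ (inv_mem hp)) s).1 hs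
      rwa [inv_inv] at this
    have h1 := cj_mem_cj (g := p) (hvR _ hs')
    have e : c (p * v * p⁻¹) s = p * c v (p⁻¹ * s * p) * p⁻¹ := by rw [c, c]; group
    rw [e]
    exact h1
  refine ⟨hlV, ?_, hp, hne, fun b hb => hlQ b (h.B1_le_Q hb)⟩
  intro hlE
  have h1 : p * v * p⁻¹ ∈ L ⊔ F := by
    refine h.cent_E.le (mem_inf.2 ⟨hlE, mem_centralizer_iff.2 ?_⟩)
    intro b hb
    have h2 : c (p * v * p⁻¹) b ∈ MulAut.conj p • h.M.R ⊓ F :=
      ⟨hlQ b (h.B1_le_Q hb), h.hyp.comm_EW hlE hb.1⟩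
    rw [h.pt_inf_F hp hne, mem_bot, c_def, mul_inv_eq_one, mul_inv_eq_iff_eq_mul] at h2
    exact h2.symm
  have h2 := hQ ⟨hlV, h.cent_of_LF h1 hp hne hlQ⟩
  apply hvL
  have h3 : p * v * p⁻¹ ∈ MulAut.conj p • L := by rwa [h.cjL hp]
  have h4 := mem_cj.1 h3
  have e : p⁻¹ * (p * v * p⁻¹) * p = v := by group
  rwa [e] at h4

end Fr

end Cfsg.Agent.Omega.BetaFF

end

end

-- merged: Cfsg.Agent.Mrg.Omega.NO3S.BetaFF.FourA
section

section


/-!
# THEOREM BETA-FF(1) (helper284 #19171), section (4): preparations and (4a)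

* `crd_ti`, `crd_mv`, `crd_cv` : the points of a natural line; `C_V(O²(P)) = 1`;
* `Fr.surjW` : `[v, W] = R` for `v ∈ L - R`;
* `Fr.zl_le_E` : a line `V_{P₂} ≤ V ∩ U` lies in `E`; `Fr.offM_of` : `W` offends on it if it moves it;
* `Fr.act` : the frame gives `Act S P V F` (helper633), so `C_V(O₂(P)) = V_P` (`Fr.cent_QL`);
* `Fr.four_a` : `V_{P₂} ≤ V ∩ U` and `V_{P₂} ∩ V_P ≰ R` ⟹ `V_{P₂} = V_P`.
-/

set_option autoImplicit false
set_option linter.unusedSectionVars false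
set_option linter.unusedVariables false

namespace Cfsg.Agent.Omega.BetaFF

open Subgroup Cfsg Cfsg.Agent.Omega.NOne.Flat Cfsg.Agent.Omega.NO3S.Fld Cfsg.Agent.Omega.MinPar
open Cfsg.Agent.Omega.NOne.NearFF (c c_def)
open Cfsg.Agent.ZN (o2 zl zc)
open Cfsg.Agent.MinSimple.VModule (zc_le zc_le_zl zl_le le_o2 le_normalizer_zl le_normalizer_o2 oddGen oddGen_le)
open Cfsg.Agent.Omega.NatPair (ap ap_zero' ap_one' ext2)
open Cfsg.Agent.Omega.FFThm (OffM NoOverM StmtM)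
open Cfsg.Agent.Omega.FrameFF (cv)
open Cfsg.Agent.Omega.NO3S.BetaFF (FSR fsr_of not_zc_le_cv Act)
open Cfsg.Agent.Lib.SL2Mat
open scoped Pointwise

universe u

/-! ### The points of a natural line -/

section crd

variable {K : Type*} [Field K] {G : Type u} [Group G] [Finite G] {S : Subgroup G} {P V : Subgroup G}

theorem crd_card_pt (M : Crd K S P V) (p : G) : Nat.card ↥(MulAut.conj p • M.R) = Nat.card K := by
  rw [card_cj, M.card_R]

/-- Two different points are disjoint. -/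
theorem crd_ti (M : Crd K S P V) (hPV : P ≤ normalizer (V : Set G)) {p : G} (hp : p ∈ P)
    (hne : MulAut.conj p • M.R ≠ M.R) : M.R ⊓ MulAut.conj p • M.R = ⊥ := by
  have cjL : MulAut.conj p • V = V := NOne.Flat.conj_eq_of_norm (hPV hp)
  rw [eq_bot_iff]
  rintro z ⟨hzR, hz⟩
  rw [mem_bot]
  by_contra hz1
  apply hne
  -- a root element `t`
  obtain ⟨t, htS, htR, ht⟩ := M.exists_full 1
  have htL : t ∉ centralizer (V : Set G) := fun hc => one_ne_zero (ht.mem_centV.1 hc).2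
  obtain ⟨B, hB⟩ := M.norm p hp t (up 1) (fun x => by
    rw [ht x]
    congr 1
    apply ext2
    · rw [ap_zero', up_00, up_01]; simp
    · rw [ap_one', up_10, up_11]; simp)
  obtain ⟨a, rfl⟩ := hzR
  have ha : a ≠ 0 := by
    rintro rfl
    apply hz1
    rw [← M.e_zero]
    congr 1
    apply ext2 <;> simp
  -- `z` commutes with `t^p`
  have hzt : p * t * p⁻¹ * M.e ![a, 0] * (p * t * p⁻¹)⁻¹ = M.e ![a, 0] := by
    have h1 := mem_centralizer_iff.1 htR _ (mem_cj.1 hz)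
    have h2 := congrArg (fun s => p * s * p⁻¹) h1
    have h3 : M.e ![a, 0] * (p * t * p⁻¹) = p * t * p⁻¹ * M.e ![a, 0] := by
      simpa [mul_assoc] using h2
    rw [← h3, mul_inv_cancel_right]
  have h4 := M.e_inj ((hB _).symm.trans hzt)
  have h5 := congrFun h4 0
  have h6 := congrFun h4 1
  rw [ap_zero'] at h5
  rw [ap_one'] at h6
  simp only [Matrix.cons_val_zero, Matrix.cons_val_one, mul_zero, add_zero] at h5 h6
  have hB0 : ent B 0 0 = 1 := by
    have : ent B 0 0 * a = 1 * a := by rw [h5, one_mul]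
    exact mul_right_cancel₀ ha this
  have hB1 : ent B 1 0 = 0 := (mul_eq_zero.1 h6).resolve_right ha
  -- so `t^p` centralises `R`
  have hle : M.R ≤ MulAut.conj p • M.R := by
    rintro _ ⟨b, rfl⟩
    have h7 : p * t * p⁻¹ * M.e ![b, 0] * (p * t * p⁻¹)⁻¹ = M.e ![b, 0] := by
      rw [hB]
      congr 1
      apply ext2
      · rw [ap_zero', hB0]; simp
      · rw [ap_one', hB1]; simp
    rw [mem_cj]
    refine M.fix htS htR htL ?_ ?_
    · rw [← mem_cj, cjL]
      exact M.e_mem _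
    · rw [mul_inv_eq_iff_eq_mul] at h7
      have h2 := congrArg (fun s => p⁻¹ * s * p) h7
      simpa [mul_assoc] using h2
  symm
  refine Subgroup.eq_of_le_of_card_ge hle ?_
  rw [crd_card_pt, M.card_R]

theorem crd_finite (M : Crd K S P V) : Finite K := by
  refine Finite.of_injective (fun a : K => M.e ![a, 0]) fun a b hab => ?_
  have := congrFun (M.e_inj hab) 0
  simpa using this

theorem crd_one_lt (M : Crd K S P V) : 1 < Nat.card K := by
  have := crd_finite M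
  exact Finite.one_lt_card

/-- `s ∈ C_S(R)` which moves `V` moves every point `≠ R`. -/
theorem crd_mv (M : Crd K S P V) (hPV : P ≤ normalizer (V : Set G)) {p s : G} (hp : p ∈ P)
    (hne : MulAut.conj p • M.R ≠ M.R) (hs : s ∈ S) (hsR : s ∈ centralizer (M.R : Set G))
    (hsV : s ∉ centralizer (V : Set G)) : MulAut.conj (s * p) • M.R ≠ MulAut.conj p • M.R := by
  intro hcon
  have cjV : MulAut.conj p • V = V := NOne.Flat.conj_eq_of_norm (hPV hp)
  have hle : MulAut.conj p • M.R ≤ V := by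
    have h0 : MulAut.conj p • M.R ≤ MulAut.conj p • V :=
      Subgroup.pointwise_smul_le_pointwise_smul_iff.2 M.R_le
    rwa [cjV] at h0
  have h1 : ∀ y ∈ MulAut.conj p • M.R, y = 1 := by
    intro y hy
    have h2 : s * y * s⁻¹ ∈ MulAut.conj p • M.R := by
      rw [← hcon, map_mul, mul_smul]
      exact cj_mem_cj hy
    have h3 : s * y * s⁻¹ * y⁻¹ ∈ M.R ⊓ MulAut.conj p • M.R :=
      ⟨M.comm_R hs hsR (hle hy), Subgroup.mul_mem _ h2 (Subgroup.inv_mem _ hy)⟩
    rw [crd_ti M hPV hp hne, mem_bot, mul_inv_eq_one, mul_inv_eq_iff_eq_mul] at h3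
    have h4 : y ∈ M.R ⊓ MulAut.conj p • M.R := ⟨M.fix hs hsR hsV (hle hy) h3, hy⟩
    rwa [crd_ti M hPV hp hne] at h4
  have h2 := crd_card_pt M p
  have h3 : Nat.card ↥(MulAut.conj p • M.R) = 1 := by
    rw [Subgroup.card_eq_one, eq_bot_iff]
    intro y hy
    exact h1 y hy
  have h4 := crd_one_lt M
  omega

/-- Some element of `P` moves `R`. -/
theorem crd_exists_mv (M : Crd K S P V) : ∃ p ∈ P, MulAut.conj p • M.R ≠ M.R := by
  obtain ⟨p, hp, h1⟩ := M.lift (mk 0 1 (-1) 0 (by ring))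
  refine ⟨p, hp, fun hcon => ?_⟩
  have h2 : p * M.e ![1, 0] * p⁻¹ ∈ MulAut.conj p • M.R := cj_mem_cj (M.e_mem_R.2 (by simp))
  rw [hcon, h1, M.e_mem_R, ap_one', mk_10, mk_11] at h2
  simp at h2

end crd

/-- `C_V(O²(P)) = 1` for a natural line. -/
theorem crd_cv {K : Type*} [Field K] {G : Type u} [Group G] [Finite G] {S : Sylow 2 G} {P : Subgroup G}
    (hP : IsParS (S : Subgroup G) P) (M : Crd K (S : Subgroup G) P (zl (S : Subgroup G) P)) :
    cv (S : Subgroup G) P = ⊥ := by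
  by_contra hne
  obtain ⟨y, hy⟩ := Subgroup.ne_bot_iff_exists_ne_one.1 hne
  have hn : P ≤ normalizer (cv (S : Subgroup G) P : Set G) := by
    intro g hg
    rw [mem_normalizer_iff]
    intro x
    constructor
    · intro hx
      exact SQ1.FFOf.cv_norm g hg _ hx
    · intro hx
      have h1 := SQ1.FFOf.cv_norm g⁻¹ (inv_mem hg) _ hx
      have e : g⁻¹ * (g * x * g⁻¹) * g⁻¹⁻¹ = x := by group
      rwa [e] at h1
  have h1 := M.irr hn y.2 (SQ1.FFOf.cv_le y.2) (fun h => hy (Subtype.ext h))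
  exact not_zc_le_cv hP ((zc_le_zl _ _).trans h1)

namespace Fr

variable {K : Type*} [Field K] {G : Type u} [Group G] [Finite G] {S : Sylow 2 G} {P P₂ V F L U : Subgroup G}

/-- `[v, W] = R` for `v ∈ L - R`. -/
theorem surjW (h : Fr K S P V F L U) {v z : G} (hv : v ∈ L) (hvR : v ∉ h.M.R) (hz : z ∈ h.M.R) :
    ∃ w ∈ WW V F, w * v * w⁻¹ * v⁻¹ = z := by
  obtain ⟨x, rfl⟩ := (h.M.mem_iff v).1 hv
  rw [h.M.e_mem_R] at hvR
  obtain ⟨b, rfl⟩ := hz
  obtain ⟨w, hw, ha⟩ := h.exists_act (b / x 1)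
  refine ⟨w, hw, ?_⟩
  rw [ha x, ← h.M.e_sub]
  congr 1
  apply ext2
  · simp only [Pi.sub_apply, Matrix.cons_val_zero, RingEquiv.refl_apply]
    rw [div_mul_cancel₀ _ hvR]; ring
  · simp

theorem commW (h : Fr K S P V F L U) {v w : G} (hv : v ∈ L) (hw : w ∈ WW V F) : w * v * w⁻¹ * v⁻¹ ∈ h.M.R :=
  h.M.comm_R (h.WS hw) (h.WR hw) hv

/-- `C_B(v) = Q` for `v ∈ L - R`, `B = C_S(R)`. -/
theorem centB (h : Fr K S P V F L U) {v b : G} (hv : v ∈ L) (hvR : v ∉ h.M.R) (hb : b ∈ (S : Subgroup G))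
    (hbR : b ∈ centralizer (h.M.R : Set G)) (hbv : b * v = v * b) : b ∈ h.Q := by
  refine ⟨hb, ?_⟩
  by_contra hbL
  exact hvR (h.M.fix hb hbR hbL hv hbv)

theorem zl_le_E (h : Fr K S P V F L U) (hV : zl (S : Subgroup G) P₂ ≤ V) (hU : zl (S : Subgroup G) P₂ ≤ U) :
    zl (S : Subgroup G) P₂ ≤ EE V F := (le_inf hV hU).trans h.VU_le_E

/-- `W` offends on every line in `E` which it moves. -/
theorem offM_of (h : Fr K S P V F L U) {X : Subgroup G} (hX : X ≤ EE V F)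
    (hm : ¬ WW V F ≤ centralizer (X : Set G)) : OffM X (WW V F) where
  sq := fun a ha => centralizer_le (hX.trans inf_le_left) (h.hyp.elemM_W.sq a ha)
  comm := fun a ha b hb => centralizer_le (hX.trans inf_le_left) (h.hyp.elemM_W.comm a ha b hb)
  ne := hm
  le := FFThm.relIndex_le_iff.2 (h.hyp.off_of_le_all hX)

/-- The data of helper633. -/
theorem act (hG : IsCharacteristicTwoType G) (hP : IsParS (S : Subgroup G) P)
    (h : Fr K S P V F (zl (S : Subgroup G) P) U) : Act S P V F where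
  char2 := hG
  par := hP
  cv := crd_cv hP h.M
  hyp := h.hyp
  PV := h.PV
  LE := h.L_le_E
  WS := h.WS
  mov := h.mv
  lines := fun x hx => (h.LU.trans h.Ucomm).trans (centralizer_le (h.conjL_le_U hx))

/-- **(1)** `C_V(Q) = L` -/
theorem cent_QL (hFF : StmtM.{u}) (hG : IsCharacteristicTwoType G) (hP : IsParS (S : Subgroup G) P)
    (h : Fr K S P V F (zl (S : Subgroup G) P) U) :
    V ⊓ centralizer (h.Q : Set G) ≤ zl (S : Subgroup G) P := by
  have h1 := (h.act hG hP).cent_VQ hFF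
  have h2 : (h.Q : Subgroup G) = o2 P := hP.inf_centralizer S hG
  rw [h2]
  exact h1.le

theorem Q_eq (hG : IsCharacteristicTwoType G) (hP : IsParS (S : Subgroup G) P)
    (h : Fr K S P V F (zl (S : Subgroup G) P) U) : h.Q = o2 P := hP.inf_centralizer S hG

theorem zc_le_R (h : Fr K S P V F (zl (S : Subgroup G) P) U) : zc (S : Subgroup G) ≤ h.M.R := by
  intro z hz
  refine h.M.mem_R_of_comm (zc_le_zl _ _ hz) fun b hb _ => (ZN.mem_zc.1 hz).2.1 b hb

/-- **(4a)** -/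
theorem four_a (hFF : StmtM.{u}) (hG : IsCharacteristicTwoType G) (hP : IsParS (S : Subgroup G) P)
    (h : Fr K S P V F (zl (S : Subgroup G) P) U) (h₂ : IsParS (S : Subgroup G) P₂)
    (hV : zl (S : Subgroup G) P₂ ≤ V) (hU : zl (S : Subgroup G) P₂ ≤ U) {v : G}
    (hv : v ∈ zl (S : Subgroup G) P₂) (hvL : v ∈ zl (S : Subgroup G) P) (hvR : v ∉ h.M.R) :
    zl (S : Subgroup G) P₂ = zl (S : Subgroup G) P := by
  have hE := h.zl_le_E hV hU
  have hm : ¬ WW V F ≤ centralizer (zl (S : Subgroup G) P₂ : Set G) := by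
    intro hc
    have h1 : h.M.R = ⊥ := by
      rw [eq_bot_iff]
      intro z hz
      obtain ⟨w, hw, rfl⟩ := h.surjW hvL hvR hz
      rw [mem_bot, ← mem_centralizer_iff.1 (hc hw) v hv, mul_inv_cancel_right, mul_inv_cancel]
    have h2 := h.M.card_R
    rw [h1, Subgroup.card_bot] at h2
    have := h.one_lt_card
    omega
  have hoff := h.offM_of hE hm
  have f := fsr_of hFF hG h₂ h.WS hoff hv (fun z hz => h.surjW hvL hvR hz) (fun a ha => h.commW hvL ha) h.zc_le_R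
  have hQ2 : o2 P₂ ≤ (S : Subgroup G) ⊓ centralizer (zl (S : Subgroup G) P₂ : Set G) :=
    (h₂.inf_centralizer S hG).ge
  -- `O₂(P₂) ≤ O₂(P) ≤ B`
  have h1 : o2 P₂ ≤ h.Q := by
    intro b hb
    have h3 := hQ2 hb
    exact h.centB hvL hvR h3.1 (centralizer_le f.RV h3.2) (mem_centralizer_iff.1 h3.2 v hv).symm
  have h2 : h.Q ≤ (S : Subgroup G) ⊓ centralizer (h.M.R : Set G) :=
    inf_le_inf_left _ (centralizer_le h.M.R_le)
  have h3 : (h.Q : Subgroup G).relIndex ((S : Subgroup G) ⊓ centralizer (h.M.R : Set G)) = Nat.card h.M.R := by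
    have h4 := h.M.relIndex_B
    rw [← h.M.card_R] at h4
    rw [← h4, ← inf_relIndex_left]
    conv_rhs => rw [← inf_relIndex_left]
    congr 1
    apply le_antisymm
    · exact le_inf inf_le_left (inf_le_right.trans inf_le_right)
    · refine le_inf inf_le_left (le_inf (inf_le_left.trans inf_le_left) inf_le_right)
  have h5 := relIndex_mul_relIndex (o2 P₂) h.Q _ h1 h2
  have h6 := f.cen
  rw [← h5, h3] at h6
  have h7 : 0 < Nat.card h.M.R := Nat.card_pos
  have h8 : (o2 P₂).relIndex h.Q ≤ 1 := by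
    by_contra hcon
    push Not at hcon
    nlinarith
  have h9 : (o2 P₂).relIndex h.Q ≠ 0 := index_ne_zero_of_finite
  have h10 : h.Q ≤ o2 P₂ := relIndex_eq_one.1 (by omega)
  have h11 : zl (S : Subgroup G) P₂ ≤ zl (S : Subgroup G) P := by
    refine (le_inf hV ?_).trans (h.cent_QL hFF hG hP)
    rw [Subgroup.le_centralizer_iff]
    exact h10.trans (hQ2.trans inf_le_right)
  refine Subgroup.eq_of_le_of_card_ge h11 ?_
  rw [f.cardV, h.M.card_V_R]

end Fr

end Cfsg.Agent.Omega.BetaFF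

end

section


/-!
# GammaFF, RED at `CaseL` and `FiveP` (helper284 #23199), section (6)

`Fr K S P V F L U` (BetaFF/Frame), `X ≥ S` normalises `V` and `U` and moves the root line `R` of `L`, `W_F ≤ O₂(X) ≤ S`,
`C_V(Q) ≤ L`, `|K| ≥ 4`: contradiction (`act_false`).

* `conjW_S`, `conjW_R` : `W^k ≤ S ∩ C(R)` for `k ∈ X`; `conjR_F` : `R^k ≤ F`;
* `exists_u` : `u ∈ ⟨R^X⟩`, `u ∉ L`, `[u, S] ≤ R`;
* `conjL_F` : (a) `R^k ≠ R` ⟹ `L^k ≤ F`;
* `relIndex_two` : elementary abelian `A ≤ N_X(R^k)` : `|A : C_A(R^k)| ≤ 2`;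
* `conjR_E` : (b) `R^k ≤ E^p`.
-/

set_option autoImplicit false

namespace Cfsg.Agent.Omega.NO3S.RedC

open Subgroup Cfsg Cfsg.Agent.Omega.NOne Cfsg.Agent.Omega.NO3S.Fld Cfsg.Agent.Omega.BetaFF
open Cfsg.Agent.Omega.NOne.Flat (conj_eq_of_norm conj_centralizer)
open Cfsg.Agent.Omega.NOne.NearFF (c c_def)
open Cfsg.Agent.ZN (o2)
open Cfsg.Agent.MinSimple.VModule (le_normalizer_o2)
open Cfsg.Agent.Omega.NO3S.OneLine (exists_fixed)
open Cfsg.Agent.Omega.NoFF.Basic (V_le Z_le_V conj_le_iff conj_conj)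
open scoped Pointwise

universe u

variable {K : Type*} [Field K] {G : Type u} [Group G] [Finite G] {S : Sylow 2 G} {P V F L U X : Subgroup G}

set_option maxHeartbeats 400000

omit [Finite G] in
theorem mem_norm_of_cj {g : G} {Y : Subgroup G} (h : MulAut.conj g • Y = Y) : g ∈ normalizer (Y : Set G) := by
  rw [mem_normalizer_iff]
  intro x
  have e : g⁻¹ * (g * x * g⁻¹) * g = x := by group
  constructor
  · intro hx
    have h1 := cj_mem_cj (g := g) hx
    rwa [h] at h1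
  · intro hx
    rw [← h] at hx
    have h1 := mem_cj.1 hx
    rwa [e] at h1

/-- The situation. -/
structure Sit (h : Fr K S P V F L U) (X : Subgroup G) : Prop where
  SX : (S : Subgroup G) ≤ X
  XV : X ≤ normalizer (V : Set G)
  XU : X ≤ normalizer (U : Set G)
  WX : Flat.WW V F ≤ o2 X
  oX : o2 X ≤ (S : Subgroup G)

namespace Sit

variable {h : Fr K S P V F L U} (s : Sit h X)
include s

theorem conjW_S {k : G} (hk : k ∈ X) : MulAut.conj k • Flat.WW V F ≤ (S : Subgroup G) := by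
  have h1 : MulAut.conj k • Flat.WW V F ≤ MulAut.conj k • o2 X := conj_le_iff.2 s.WX
  rw [conj_eq_of_norm (le_normalizer_o2 X hk)] at h1
  exact h1.trans s.oX

theorem hyp {k : G} (hk : k ∈ X) : Flat.Hyp V (MulAut.conj k • F) := h.hyp.conj (s.XV hk)

theorem conjW {k : G} (hk : k ∈ X) : MulAut.conj k • Flat.WW V F = Flat.WW V (MulAut.conj k • F) := Flat.WW_conj (s.XV hk)

theorem conjVU {k : G} (hk : k ∈ X) : MulAut.conj k • (V ⊓ U) = V ⊓ U := by
  rw [Subgroup.smul_inf, conj_eq_of_norm (s.XV hk), conj_eq_of_norm (s.XU hk)]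

theorem conjL_VU {k : G} (hk : k ∈ X) : MulAut.conj k • L ≤ V ⊓ U := by
  rw [← s.conjVU hk]
  exact conj_le_iff.2 h.L_le_VU

theorem L_le_E {k : G} (hk : k ∈ X) : L ≤ Flat.EE V (MulAut.conj k • F) := by
  have h1 : MulAut.conj k • (V ⊓ U) ≤ MulAut.conj k • Flat.EE V F := conj_le_iff.2 h.VU_le_E
  rw [s.conjVU hk, Flat.EE_conj (s.XV hk)] at h1
  exact h.L_le_VU.trans h1

theorem conjW_R [Finite K] [CharP K 2] {k : G} (hk : k ∈ X) : MulAut.conj k • Flat.WW V F ≤ centralizer (h.M.R : Set G) := by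
  have hf := s.hyp hk
  have hE := s.L_le_E hk
  have h0 := s.conjW_S hk
  rw [s.conjW hk] at h0 ⊢
  have hEl : FFThm.ElemM L (Flat.WW V (MulAut.conj k • F)) :=
    ⟨fun a ha => centralizer_le (hE.trans inf_le_left) (hf.elemM_W.sq a ha),
      fun a ha b hb => centralizer_le (hE.trans inf_le_left) (hf.elemM_W.comm a ha b hb)⟩
  exact h.M.off_le_centR h0 hEl (FFThm.relIndex_le_iff.2 (hf.off_of_le_all hE))

/-- `R^k ≤ F` -/
theorem conjR_F [Finite K] [CharP K 2] {k : G} (hk : k ∈ X) : MulAut.conj k • h.M.R ≤ F := by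
  have hV : MulAut.conj k • h.M.R ≤ V := by
    have h1 : MulAut.conj k • h.M.R ≤ MulAut.conj k • V := conj_le_iff.2 h.R_le_V
    rwa [conj_eq_of_norm (s.XV hk)] at h1
  refine (le_inf hV ?_).trans h.hyp.cent_VW.le
  rw [le_centralizer_iff, ← conj_centralizer]
  have h1 := conj_le_iff (g := k) |>.2 (s.conjW_R (inv_mem hk))
  rwa [conj_conj, mul_inv_cancel, map_one, one_smul] at h1

/-- `u ∈ ⟨R^X⟩`, `u ∉ L`, `[u, S] ≤ R` -/
theorem exists_u [Finite K] [CharP K 2] (mv : ¬ X ≤ normalizer (h.M.R : Set G)) :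
    ∃ v ∈ NoFF.Basic.V h.M.R X, v ∈ V ∧ v ∉ L ∧ ∀ t ∈ (S : Subgroup G), c v t ∈ h.M.R := by
  set Y := NoFF.Basic.V h.M.R X with hY
  have hYF : Y ≤ F := V_le fun k hk => s.conjR_F hk
  have hYS : Y ≤ (S : Subgroup G) := (hYF.trans (h.hyp.F_le_E.trans NOne.Flat.Hyp.E_le_W)).trans h.WS
  have hkey : ∀ g ∈ X, MulAut.conj g • Y ≤ Y := by
    intro g hg
    have h1 : Y ≤ MulAut.conj g⁻¹ • Y := by
      refine V_le fun k hk => ?_
      have h2 : MulAut.conj (g * k) • h.M.R ≤ Y := Z_le_V (mul_mem hg hk)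
      have h3 := conj_le_iff (g := g⁻¹) |>.2 h2
      rwa [conj_conj, inv_mul_cancel_left] at h3
    have h2 := conj_le_iff (g := g) |>.2 h1
    rwa [conj_conj, mul_inv_cancel, map_one, one_smul] at h2
  have hYn : (S : Subgroup G) ≤ normalizer (Y : Set G) := by
    intro g hg
    have hgX := s.SX hg
    refine mem_norm_of_cj ?_
    exact Subgroup.eq_of_le_of_card_ge (hkey g hgX) (card_cj _ _).ge
  have hne : ¬ Y ≤ h.M.R := by
    intro hle
    apply mv
    intro g hg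
    refine mem_norm_of_cj ?_
    exact Subgroup.eq_of_le_of_card_ge ((Z_le_V hg).trans hle) (card_cj _ _).ge
  obtain ⟨y, hy, hyR, hys⟩ := exists_fixed (M := h.M.R) S.isPGroup' hYS hYn hne
  refine ⟨y, hy, h.hyp.F_le_V (hYF hy), fun hyL => hyR ?_, fun t ht => ?_⟩
  · rw [← SetLike.mem_coe, ← h.L_inf_F]
    exact ⟨hyL, hYF hy⟩
  · have h1 := inv_mem (hys t ht)
    have e : c y t = (t * y * t⁻¹ * y⁻¹)⁻¹ := by rw [c]; group
    rwa [e]

/-- **(a)** `R^k ≠ R` ⟹ `L^k ≤ F` -/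
theorem conjL_F [Finite K] [CharP K 2] (hVU : V ⊓ U ≤ L ⊔ F) {k : G} (hk : k ∈ X)
    (hne : MulAut.conj k • h.M.R ≠ h.M.R) : MulAut.conj k • L ≤ F := by
  have hLV := s.conjL_VU hk
  refine (le_inf (hLV.trans inf_le_left) ?_).trans h.hyp.cent_VW.le
  rw [le_centralizer_iff]
  by_contra hcon
  obtain ⟨w, hw, hwL⟩ := SetLike.not_le_iff_exists.1 hcon
  apply hne
  -- `w' = k⁻¹ w k` is a root element
  have hw' : k⁻¹ * w * k ∈ MulAut.conj k⁻¹ • Flat.WW V F := by
    have := cj_mem_cj (g := k⁻¹) hw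
    rwa [inv_inv] at this
  have hwS := s.conjW_S (inv_mem hk) hw'
  have hwR := s.conjW_R (inv_mem hk) hw'
  have hwL' : k⁻¹ * w * k ∉ centralizer (L : Set G) := by
    intro h1
    apply hwL
    rw [← conj_centralizer]
    exact mem_cj.2 h1
  obtain ⟨a, ha⟩ := h.M.exists_root hwS hwR
  have ha0 : a ≠ 0 := fun h0 => hwL' (ha.mem_centV.2 ⟨rfl, h0⟩)
  have hle : MulAut.conj k • h.M.R ≤ h.M.R := by
    intro z hz
    obtain ⟨b, hb⟩ := mem_cj.1 hz
    -- `z^k = [w', e(0, b/a)]`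
    have h1 := ha ![0, b / a]
    have h2 : (![(RingEquiv.refl K) ((![0, b / a] : Fin 2 → K) 0) + a * (RingEquiv.refl K) ((![0, b / a] : Fin 2 → K) 1),
        (RingEquiv.refl K) ((![0, b / a] : Fin 2 → K) 1)] : Fin 2 → K) = ![b, 0] + ![0, b / a] := by
      apply NatPair.ext2
      · simp [mul_div_cancel₀, ha0]
      · simp
    rw [h2, h.M.e_add] at h1
    set l := h.M.e ![0, b / a] with hl
    have h3 : k * l * k⁻¹ ∈ L ⊔ F := hVU (hLV (cj_mem_cj (h.M.e_mem _)))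
    have h4 := inv_mem (h.comm_LF h3 hw)
    have h5 : (c (k * l * k⁻¹) w)⁻¹ = z := by
      have e1 : (c (k * l * k⁻¹) w)⁻¹ = k * ((k⁻¹ * w * k) * l * (k⁻¹ * w * k)⁻¹ * l⁻¹) * k⁻¹ := by rw [c]; group
      rw [e1, h1, mul_inv_cancel_right, hb]
      group
    rwa [h5] at h4
  exact Subgroup.eq_of_le_of_card_ge hle (card_cj _ _).ge

/-- an elementary abelian `A ≤ N_X(R^k)` acts with order `≤ 2` on `R^k` -/
theorem relIndex_two [Finite K] {k : G} (hk : k ∈ X) {A : Subgroup G} (hsq : ∀ a ∈ A, a ^ 2 = 1) (hAX : A ≤ X)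
    (hAn : ∀ a ∈ A, MulAut.conj a • MulAut.conj k • h.M.R = MulAut.conj k • h.M.R) :
    (centralizer ((MulAut.conj k • h.M.R : Subgroup G) : Set G)).relIndex A ≤ 2 := by
  have : Fact (Nat.Prime 2) := ⟨Nat.prime_two⟩
  have hA2 : IsPGroup 2 (MulAut.conj k⁻¹ • A : Subgroup G) := by
    rintro ⟨y, hy⟩
    refine ⟨1, Subtype.ext ?_⟩
    rw [mem_cj, inv_inv] at hy
    have h1 := hsq _ hy
    have e : y ^ 2 = k⁻¹ * (k * y * k⁻¹) ^ 2 * k := by rw [pow_two, pow_two]; group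
    simp [e, h1]
  obtain ⟨m, hm, hle⟩ := NoFF.Main.exists_le_conj (M := X ⊓ normalizer (h.M.R : Set G)) S (le_inf s.SX h.M.S_R) hA2 (by
    intro y hy
    rw [mem_cj, inv_inv] at hy
    refine ⟨?_, ?_⟩
    · have := mul_mem (mul_mem (inv_mem hk) (hAX hy)) hk
      have e : k⁻¹ * (k * y * k⁻¹) * k = y := by group
      rwa [e] at this
    · refine mem_norm_of_cj ?_
      have h1 := hAn _ hy
      rw [conj_conj] at h1
      have h2 := congrArg (fun T : Subgroup G => MulAut.conj k⁻¹ • T) h1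
      simp only [conj_conj] at h2
      have e : k⁻¹ * (k * y * k⁻¹ * k) = y := by group
      rwa [e, inv_mul_cancel, map_one, one_smul] at h2)
  have hmR : MulAut.conj m • h.M.R = h.M.R := conj_eq_of_norm hm.2
  -- `A'' = A^{(k m)⁻¹} ≤ S`
  set A'' : Subgroup G := MulAut.conj (k * m)⁻¹ • A with hA''
  have hA''S : A'' ≤ (S : Subgroup G) := by
    have h1 := conj_le_iff (g := m⁻¹) |>.2 hle
    rw [conj_conj, conj_conj, inv_mul_cancel, map_one, one_smul] at h1
    rwa [hA'', mul_inv_rev]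
  have hsq'' : ∀ a ∈ A'', a ^ 2 ∈ centralizer (h.M.R : Set G) := by
    intro a ha
    rw [hA'', mem_cj, inv_inv] at ha
    have h1 := hsq _ ha
    have e : a ^ 2 = (k * m)⁻¹ * (k * m * a * (k * m)⁻¹) ^ 2 * (k * m) := by rw [pow_two, pow_two]; group
    rw [e, h1, mul_one, inv_mul_cancel]
    exact one_mem _
  have h1 : (centralizer (h.M.R : Set G)).relIndex A'' ≤ 2 := by
    by_cases hc : A'' ≤ centralizer (h.M.R : Set G)
    · rw [relIndex_eq_one.2 hc]
      norm_num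
    · exact (h.M.relIndex_two hA''S hsq'' hc).le
  have h2 := Subgroup.relIndex_pointwise_smul (MulAut.conj (k * m)) (centralizer (h.M.R : Set G)) A''
  rw [hA'', conj_conj, mul_inv_cancel, map_one, one_smul, conj_centralizer, ← conj_conj k m, hmR, ← hA''] at h2
  rw [h2]
  exact h1

omit s [Finite G] in
theorem conj_ne {A : Subgroup G} {g : G} (hg : MulAut.conj g • A ≠ A) : MulAut.conj g⁻¹ • A ≠ A := by
  intro h1
  apply hg
  conv_lhs => rw [← h1]
  rw [conj_conj, mul_inv_cancel, map_one, one_smul]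

/-- **(b)** `R^k ≤ E^p` -/
theorem conjR_E [Finite K] [CharP K 2] (hK : 4 ≤ Nat.card K) {w p₀ : G} (b : BadAt h w p₀) {k p : G} (hk : k ∈ X)
    (hp : p ∈ P) : MulAut.conj k • h.M.R ≤ MulAut.conj p • Flat.EE V F := by
  by_cases hkR : MulAut.conj k • h.M.R = h.M.R
  · rw [hkR]
    have h1 : MulAut.conj p • L ≤ MulAut.conj p • Flat.EE V F := conj_le_iff.2 h.L_le_E
    rw [h.cjL hp] at h1
    exact h.R_le_L.trans h1
  by_contra hcon
  obtain ⟨r, hr, hrE⟩ := SetLike.not_le_iff_exists.1 hcon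
  obtain ⟨x, hx, hb⟩ := h.exists_bad
  have hkLV : MulAut.conj k • L ≤ V := (s.conjL_VU hk).trans inf_le_left
  have hrV : r ∈ V := hkLV (conj_le_iff.2 h.R_le_L hr)
  -- `Λ = (L^x)^p`
  set A : Subgroup G := MulAut.conj p • MulAut.conj x • L with hA
  have hAB : A ≤ MulAut.conj p • h.B1 := conj_le_iff.2 (h.conjL_le hx)
  have hAQ : A ≤ h.Q := by
    have h1 : MulAut.conj p • h.B1 ≤ MulAut.conj p • h.Q := conj_le_iff.2 h.B1_le_Q
    have h2 : MulAut.conj p • h.Q = h.Q := conj_eq_of_norm (h.PQ hp)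
    rw [h2] at h1
    exact hAB.trans h1
  have hAX : A ≤ X := (hAQ.trans inf_le_left).trans s.SX
  have hsq : ∀ a ∈ A, a ^ 2 = 1 := by
    intro a ha
    rw [hA, conj_conj, mem_cj] at ha
    have h1 := h.hyp.sq _ (h.LV ha)
    have e : a ^ 2 = p * x * ((p * x)⁻¹ * a * (p * x)) ^ 2 * (p * x)⁻¹ := by rw [pow_two, pow_two]; group
    rw [e, h1, mul_one, mul_inv_cancel]
  -- `C_Λ(r) ≤ R^p`
  have hcent : ∀ a ∈ A, r * a = a * r → a ∈ MulAut.conj p • h.M.R := by
    intro a ha har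
    have hv : p⁻¹ * r * p ∈ V := by
      have h1 : r ∈ MulAut.conj p • V := by rwa [h.cjV hp]
      exact mem_cj.1 h1
    have hvE : p⁻¹ * r * p ∉ Flat.EE V F := fun h1 => hrE (mem_cj.2 h1)
    have hl : p⁻¹ * a * p ∈ MulAut.conj x • L := mem_cj.1 ha
    have h1 : c (p⁻¹ * r * p) (p⁻¹ * a * p) ∈ F := by
      have e : c (p⁻¹ * r * p) (p⁻¹ * a * p) = p⁻¹ * (r * a * (a * r)⁻¹) * p := by rw [c]; group
      rw [e, har, mul_inv_cancel, mul_one, inv_mul_cancel]
      exact one_mem _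
    have h2 := (h.hyp.c_mem_F_iff hv hvE (h.conjL_le hx hl).1).1 h1
    exact mem_cj.2 ((h.conjL_inf hx hb).le ⟨hl, h2⟩)
  have hcard : Nat.card K ≤ (centralizer ((MulAut.conj k • h.M.R : Subgroup G) : Set G)).relIndex A := by
    have h1 : A ⊓ centralizer ((MulAut.conj k • h.M.R : Subgroup G) : Set G) ≤ MulAut.conj p • h.M.R := by
      rintro a ⟨ha, haR⟩
      exact hcent a ha (mem_centralizer_iff.1 haR r hr)
    have h2 : (MulAut.conj p • h.M.R).relIndex A = Nat.card K := by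
      rw [← h.relIndex_R_L, hA]
      conv_lhs => rw [← h.conjR hx]
      rw [Subgroup.relIndex_pointwise_smul, Subgroup.relIndex_pointwise_smul]
    rw [← h2, ← inf_relIndex_left A (centralizer ((MulAut.conj k • h.M.R : Subgroup G) : Set G))]
    exact Subgroup.relIndex_le_of_le_left h1 Subgroup.index_ne_zero_of_finite
  obtain ⟨a, ha, haR⟩ : ∃ a ∈ A, MulAut.conj a • MulAut.conj k • h.M.R ≠ MulAut.conj k • h.M.R := by
    by_contra hcon'
    push Not at hcon'
    have h1 := s.relIndex_two hk hsq hAX hcon'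
    omega
  -- `L^{ak} ≤ F^k`
  have e1 : a * k = k * (k⁻¹ * a * k) := by group
  have h3 : MulAut.conj a • MulAut.conj k • L ≤ MulAut.conj k • F := by
    have h1 : MulAut.conj (k⁻¹ * a * k) • h.M.R ≠ h.M.R := by
      intro h1
      apply haR
      rw [conj_conj, e1, ← conj_conj, h1]
    have h2 := s.conjL_F b.VU_le (mul_mem (mul_mem (inv_mem hk) (hAX ha)) hk) h1
    have h3 := conj_le_iff (g := k) |>.2 h2
    rwa [conj_conj, ← e1, ← conj_conj] at h3
  -- `L ≤ F^k`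
  have h4 : L ≤ MulAut.conj k • F := by
    have h6 := s.conjL_F b.VU_le (inv_mem hk) (conj_ne hkR)
    have h7 := conj_le_iff (g := k) |>.2 h6
    rwa [conj_conj, mul_inv_cancel, map_one, one_smul] at h7
  -- `L^k ∩ E^p ≤ R^k`
  have h5 : MulAut.conj k • L ⊓ MulAut.conj p • Flat.EE V F ≤ MulAut.conj k • h.M.R := by
    rintro v ⟨hv, hvE⟩
    have hvF : v ∈ MulAut.conj k • F := by
      have h6 : c v a ∈ MulAut.conj k • F := by
        have h7 := b.comm_E (mem_cj.1 hvE) (mem_cj.1 (hAB ha))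
        have h8 := cj_mem_cj (g := p) h7
        have e : p * c (p⁻¹ * v * p) (p⁻¹ * a * p) * p⁻¹ = c v a := by rw [c, c]; group
        rw [e] at h8
        exact h4 (h.pt_le hp h8)
      have h7 : a * v * a⁻¹ ∈ MulAut.conj k • F := h3 (cj_mem_cj hv)
      have e : v = c v a * (a * v * a⁻¹) := by rw [c]; group
      rw [e]
      exact mul_mem h6 h7
    have h6 : v ∈ MulAut.conj k • (L ⊓ F) := by
      rw [Subgroup.smul_inf]
      exact ⟨hv, hvF⟩
    rwa [h.L_inf_F] at h6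
  have h6 : (MulAut.conj p • Flat.EE V F).relIndex (MulAut.conj k • L) ≤ Nat.card K := by
    have h7 : (MulAut.conj p • Flat.EE V F).relIndex (MulAut.conj k • L) ≤ (MulAut.conj p • Flat.EE V F).relIndex V :=
      Subgroup.relIndex_le_of_le_right hkLV Subgroup.index_ne_zero_of_finite
    have h8 := Subgroup.relIndex_pointwise_smul (MulAut.conj p) (Flat.EE V F) V
    rw [h.cjV hp] at h8
    rw [h8] at h7
    exact h7.trans b.relIndex_V_le
  have h7 : Nat.card ↥(MulAut.conj k • h.M.R) ≤ Nat.card ↥(MulAut.conj k • L ⊓ MulAut.conj p • Flat.EE V F) := by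
    have h8 := NOne.Flat.card_mul_relIndex'
      (inf_le_left : MulAut.conj k • L ⊓ MulAut.conj p • Flat.EE V F ≤ MulAut.conj k • L)
    rw [inf_relIndex_left, card_cj, h.M.card_V] at h8
    rw [card_cj, h.M.card_R]
    have h9 := Nat.mul_le_mul_left (Nat.card ↥(MulAut.conj k • L ⊓ MulAut.conj p • Flat.EE V F)) h6
    rw [h8] at h9
    exact Nat.le_of_mul_le_mul_right h9 h.card_pos
  have h8 := Subgroup.eq_of_le_of_card_ge h5 h7
  exact hrE ((h8.ge.trans inf_le_right) hr)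

end Sit

/-- **(6)** -/
theorem act_false {K : Type*} [Field K] [Finite K] [CharP K 2] (h : Fr K S P V F L U) (hK : 4 ≤ Nat.card K)
    (SX : (S : Subgroup G) ≤ X) (XV : X ≤ normalizer (V : Set G)) (XU : X ≤ normalizer (U : Set G))
    (hVQ : V ⊓ centralizer (h.Q : Set G) ≤ L) (hWX : Flat.WW V F ≤ o2 X) (hoX : o2 X ≤ (S : Subgroup G))
    (mv : ¬ X ≤ normalizer (h.M.R : Set G)) : False := by
  have s : Sit h X := ⟨SX, XV, XU, hWX, hoX⟩
  obtain ⟨v, hvY, hvV, hvL, hvS⟩ := s.exists_u mv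
  obtain ⟨p, hp, hpR⟩ := crd_exists_mv h.M
  have b := h.badAt hVQ hvV hvL (fun t ht => hvS t ht.1) hp hpR
  have h1 : NoFF.Basic.V h.M.R X ≤ MulAut.conj p⁻¹ • Flat.EE V F :=
    V_le fun k hk => s.conjR_E hK b hk (inv_mem hp)
  have h2 := mem_cj.1 (h1 hvY)
  rw [inv_inv] at h2
  exact b.wE h2

end Cfsg.Agent.Omega.NO3S.RedC

end

end

-- merged: Cfsg.Agent.Mrg.Omega.NO3S.BetaFF.FourB
section

section


/-!
# THEOREM BETA-FF(1) (helper284 #19171), section (4): (4b)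

`P₂ ∈ P*(S)`, `E₂ = V_{P₂} ≤ V`, `E₂ ≰ R`, `E₂ ∩ L ≤ R`, `r = |K| > 2` ⟹ `Out`: with `p ∈ P` moving `R` and `x ∈ C_G(F)`
bad, `A = (L^x)^{p⁻¹} ≤ Q`: `[E, C_W(L)] ≤ R`, `C_V(L^x) = L F`, `V = E₂^p E`, `V_{P₂}` is a natural line with the
root line `R`, `A` induces more than two elements on it.
-/

set_option autoImplicit false

namespace Cfsg.Agent.Omega.BetaFF

open Subgroup Cfsg Cfsg.Agent.Omega.NOne.Flat Cfsg.Agent.Omega.NO3S.Fld Cfsg.Agent.Omega.MinPar
open Cfsg.Agent.Omega.NOne.NearFF (c c_def)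
open Cfsg.Agent.ZN (o2 zl zc)
open Cfsg.Agent.MinSimple.VModule (zc_le zc_le_zl zl_le le_o2 le_normalizer_zl le_normalizer_o2 oddGen oddGen_le)
open Cfsg.Agent.Omega.FFThm (OffM NoOverM StmtM)
open Cfsg.Agent.Omega.FrameFF (cv)
open Cfsg.Agent.Omega.NO3S.BetaFF (FSR fsr_of fs_nat not_zc_le_cv Act)
open Cfsg.Agent.Omega.NO3S.OneLine (exists_fixed)
open scoped Pointwise

universe u

namespace Fr

variable {K : Type*} [Field K] {G : Type u} [Group G] [Finite G] {S : Sylow 2 G} {P P₂ V F U : Subgroup G}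

/-- The outputs of (4b). -/
structure Out (h : Fr K S P V F (zl (S : Subgroup G) P) U) (P₂ : Subgroup G) (x : G) : Prop where
  nat : ∃ (F₂ : Type) (_ : Field F₂) (_ : Finite F₂) (_ : CharP F₂ 2)
    (M₂ : Crd F₂ (S : Subgroup G) P₂ (zl (S : Subgroup G) P₂)), M₂.R = h.M.R
  hx : x ∈ centralizer (F : Set G)
  E : ∀ e ∈ EE V F, ∀ b ∈ WW V F, b ∈ centralizer (zl (S : Subgroup G) P : Set G) → c e b ∈ h.M.R
  D : V ⊓ centralizer ((MulAut.conj x • zl (S : Subgroup G) P : Subgroup G) : Set G) ≤ zl (S : Subgroup G) P ⊔ F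
  span : ∃ y ∈ P, ∀ v ∈ V, ∃ l ∈ zl (S : Subgroup G) P₂, ∃ e ∈ EE V F, v = y * l * y⁻¹ * e
  hB : ∃ b ∈ WW V F, b ∈ centralizer (zl (S : Subgroup G) P : Set G) ∧ b ∉ NN V F
  hA : ∃ y ∈ P, ∃ a ∈ MulAut.conj (y * x) • zl (S : Subgroup G) P, ∃ b ∈ MulAut.conj (y * x) • zl (S : Subgroup G) P,
    a ∉ centralizer (zl (S : Subgroup G) P₂ : Set G) ∧ b ∉ centralizer (zl (S : Subgroup G) P₂ : Set G) ∧
      b * a ∉ centralizer (zl (S : Subgroup G) P₂ : Set G)

/-- **(4b)** -/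
theorem four_b (hFF : StmtM.{u}) (hG : IsCharacteristicTwoType G) (hP : IsParS (S : Subgroup G) P)
    (h : Fr K S P V F (zl (S : Subgroup G) P) U) (hK : 2 < Nat.card K) (h₂ : IsParS (S : Subgroup G) P₂)
    (hV : zl (S : Subgroup G) P₂ ≤ V) (hne : ¬ zl (S : Subgroup G) P₂ ≤ h.M.R)
    (hinf : zl (S : Subgroup G) P₂ ⊓ zl (S : Subgroup G) P ≤ h.M.R) {x : G} (hx : x ∈ centralizer (F : Set G))
    (hb : BadX V x) : h.Out P₂ x := by
  have hPP := h.PV
  have hzlS : zl (S : Subgroup G) P₂ ≤ (S : Subgroup G) :=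
    (NO3S.Fld.zl_le_o2' hG h₂).trans (NO3S.OneLine.o2_le S h₂.toIsPar)
  have hSn : (S : Subgroup G) ≤ normalizer (zl (S : Subgroup G) P₂ : Set G) := h₂.le.trans (le_normalizer_zl _ _)
  obtain ⟨v, hv, hvR, hvS⟩ := exists_fixed (M := h.M.R) (N := zl (S : Subgroup G) P₂) S.isPGroup' hzlS hSn hne
  have hvV : v ∈ V := hV hv
  have hvL : v ∉ zl (S : Subgroup G) P := fun h1 => hvR (hinf ⟨hv, h1⟩)
  have hcQ := h.cent_QL hFF hG hP
  obtain ⟨p, hp, hpR⟩ := crd_exists_mv h.M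
  have hcinv : ∀ {a b : G}, c a b = (b * a * b⁻¹ * a⁻¹)⁻¹ := fun {a b} => by rw [c]; group
  have b := h.badAt hcQ hvV hvL (fun s hs => by rw [hcinv]; exact inv_mem (hvS s hs.1)) hp hpR
  -- the group `A`
  have memA : ∀ {a : G}, a ∈ MulAut.conj (p⁻¹ * x) • zl (S : Subgroup G) P ↔
      p * a * p⁻¹ ∈ MulAut.conj x • zl (S : Subgroup G) P := by
    intro a
    rw [mem_cj, mem_cj]
    have e : (p⁻¹ * x)⁻¹ * a * (p⁻¹ * x) = x⁻¹ * (p * a * p⁻¹) * x := by group
    rw [e]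
  obtain ⟨A, hA⟩ : ∃ A, A = MulAut.conj (p⁻¹ * x) • zl (S : Subgroup G) P := ⟨_, rfl⟩
  rw [← hA] at memA
  have hAQ : A ≤ h.Q := by
    intro a ha
    have h1 := h.B1_le_Q (h.conjL_le hx (memA.1 ha))
    have h2 := (mem_normalizer_iff.1 (h.PQ (inv_mem hp)) _).1 h1
    have e : p⁻¹ * (p * a * p⁻¹) * p⁻¹⁻¹ = a := by group
    rwa [e] at h2
  have hAS : A ≤ (S : Subgroup G) := hAQ.trans inf_le_left
  have hccc : ∀ a e : G, p * c e a * p⁻¹ = c (p * e * p⁻¹) (p * a * p⁻¹) := by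
    intro a e; rw [c, c]; group
  have hpR' : MulAut.conj p⁻¹ • h.M.R ≠ h.M.R := by
    intro h1
    apply hpR
    conv_lhs => rw [← h1]
    rw [← mul_smul, ← map_mul, mul_inv_cancel, map_one, one_smul]
  have hti : h.M.R ⊓ MulAut.conj p⁻¹ • h.M.R = ⊥ := crd_ti h.M (le_normalizer_zl _ _) (inv_mem hp) hpR'
  have hpL : MulAut.conj p⁻¹ • h.M.R ≤ zl (S : Subgroup G) P := h.pt_le (inv_mem hp)
  have hpV : ∀ {y : G}, y ∈ V → p * y * p⁻¹ ∈ V := fun {y} hy => (mem_normalizer_iff.1 (h.PV hp) y).1 hy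
  -- (i)
  have hi : ∀ e ∈ zl (S : Subgroup G) P₂, p * e * p⁻¹ ∈ EE V F → ∀ a ∈ A, a * e = e * a := by
    intro e he hpe a ha
    have h1 := b.comm_E hpe (h.conjL_le hx (memA.1 ha))
    rw [← hccc] at h1
    have h2 : c e a ∈ MulAut.conj p⁻¹ • h.M.R := by
      rw [mem_cj, inv_inv]; exact h1
    have h3 : c e a ∈ zl (S : Subgroup G) P₂ := by
      have h4 := (mem_normalizer_iff.1 (hSn (hAS ha)) _).1 (inv_mem he)
      have e1 : c e a = e * (a * e⁻¹ * a⁻¹) := by rw [c]; group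
      rw [e1]
      exact mul_mem he h4
    have h4 : c e a ∈ h.M.R ⊓ MulAut.conj p⁻¹ • h.M.R := ⟨hinf ⟨h3, hpL h2⟩, h2⟩
    rw [hti, mem_bot, c_def, mul_inv_eq_one, mul_inv_eq_iff_eq_mul] at h4
    exact h4.symm
  -- (ii)
  have hii : ∀ e ∈ V, p * e * p⁻¹ ∉ EE V F → ∀ a ∈ A, a * e = e * a → a ∈ MulAut.conj p⁻¹ • h.M.R := by
    intro e he hpe a ha hae
    rw [mem_cj, inv_inv]
    have h1 : c (p * e * p⁻¹) (p * a * p⁻¹) ∈ F := by
      rw [← hccc]
      have e1 : c e a = 1 := by rw [c_def, ← hae]; group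
      rw [e1, mul_one, mul_inv_cancel]
      exact one_mem _
    have h2 := memA.1 ha
    rw [h.hyp.c_mem_F_iff (hpV he) hpe (h.conjL_le_W hx h2)] at h1
    rw [← h.conjL_inf hx hb]
    exact ⟨h2, h1⟩
  have hpRV : ∀ a ∈ MulAut.conj p⁻¹ • h.M.R, a ∈ centralizer (zl (S : Subgroup G) P₂ : Set G) := by
    intro a ha
    rw [mem_centralizer_iff]
    intro y hy
    exact h.hyp.V_comm (hV hy) (h.LV (hpL ha))
  -- `[v, A] = R`
  have hR : ∀ z ∈ h.M.R, ∃ a ∈ A, a * v * a⁻¹ * v⁻¹ = z := by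
    intro z hz
    obtain ⟨l, hl, hlz⟩ := b.surj hx hb (z := p * z⁻¹ * p⁻¹) (cj_mem_cj (inv_mem hz))
    refine ⟨p⁻¹ * l * p, memA.2 ?_, ?_⟩
    · have e : p * (p⁻¹ * l * p) * p⁻¹ = l := by group
      rw [e]; exact hl
    · have e : p⁻¹ * l * p * v * (p⁻¹ * l * p)⁻¹ * v⁻¹ = p⁻¹ * (c (p * v * p⁻¹) l)⁻¹ * p := by rw [c]; group
      rw [e, hlz]
      group
  have hR' : ∀ a ∈ A, a * v * a⁻¹ * v⁻¹ ∈ h.M.R := fun a ha => hvS a (hAS ha)
  -- `A` offends
  have hAab : ∀ a ∈ A, ∀ a' ∈ A, a * a' = a' * a := by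
    intro a ha a' ha'
    rw [hA, mem_cj] at ha ha'
    have h1 := h.hyp.V_comm (h.LV ha) (h.LV ha')
    have h2 := congrArg (fun t => (p⁻¹ * x) * t * (p⁻¹ * x)⁻¹) h1
    simpa [mul_assoc] using h2
  have hAsq : ∀ a ∈ A, a ^ 2 = 1 := by
    intro a ha
    rw [hA, mem_cj] at ha
    have h1 := h.hyp.sq' (h.LV ha)
    have h2 := congrArg (fun t => (p⁻¹ * x) * t * (p⁻¹ * x)⁻¹) h1
    rw [pow_two]
    simpa [mul_assoc] using h2
  have hlowA : (MulAut.conj p⁻¹ • h.M.R).relIndex A = Nat.card K := by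
    have h1 : A = MulAut.conj p⁻¹ • MulAut.conj x • zl (S : Subgroup G) P := by rw [hA, map_mul, mul_smul]
    rw [h1, Subgroup.relIndex_pointwise_smul]
    conv_lhs => rw [← h.conjR hx]
    rw [Subgroup.relIndex_pointwise_smul, h.relIndex_R_L]
  have hlow : Nat.card K ≤ (centralizer (zl (S : Subgroup G) P₂ : Set G)).relIndex A := by
    rw [← hlowA, ← inf_relIndex_left A (centralizer (zl (S : Subgroup G) P₂ : Set G))]
    refine relIndex_le_of_le_left ?_ index_ne_zero_of_finite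
    rintro a ⟨ha, ha2⟩
    exact hii v hvV b.wE a ha (mem_centralizer_iff.1 ha2 v hv).symm
  have hT : MulAut.conj p⁻¹ • EE V F ≤ V := by
    have h1 : MulAut.conj p⁻¹ • EE V F ≤ MulAut.conj p⁻¹ • V :=
      Subgroup.pointwise_smul_le_pointwise_smul_iff.2 inf_le_left
    rwa [h.cjV (inv_mem hp)] at h1
  have hTV : (MulAut.conj p⁻¹ • EE V F).relIndex V ≤ Nat.card K := by
    have h1 : (MulAut.conj p⁻¹ • EE V F).relIndex (MulAut.conj p⁻¹ • V) = (EE V F).relIndex V :=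
      Subgroup.relIndex_pointwise_smul _ _ _
    rw [h.cjV (inv_mem hp)] at h1
    rw [h1]
    exact b.relIndex_V_le
  have hTz : (MulAut.conj p⁻¹ • EE V F).relIndex (zl (S : Subgroup G) P₂) ≤
      (MulAut.conj p⁻¹ • EE V F).relIndex V := relIndex_le_of_le_right hV index_ne_zero_of_finite
  have hcA : (centralizer (A : Set G)).relIndex (zl (S : Subgroup G) P₂) ≤
      (MulAut.conj p⁻¹ • EE V F).relIndex (zl (S : Subgroup G) P₂) := by
    rw [← inf_relIndex_left (zl (S : Subgroup G) P₂) (MulAut.conj p⁻¹ • EE V F)]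
    refine relIndex_le_of_le_left ?_ index_ne_zero_of_finite
    intro e he
    have he2 : p * e * p⁻¹ ∈ EE V F := by
      have h1 := mem_cj.1 (Subgroup.mem_inf.1 he).2
      rwa [inv_inv] at h1
    exact mem_centralizer_iff.2 fun a ha => hi e (Subgroup.mem_inf.1 he).1 he2 a ha
  have hoff : OffM (zl (S : Subgroup G) P₂) A :=
    { sq := fun a ha => by rw [hAsq a ha]; exact one_mem _
      comm := fun a ha a' ha' => by
        rw [hAab a ha a' ha', mul_inv_cancel_right, mul_inv_cancel]; exact one_mem _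
      ne := by
        intro hc
        rw [relIndex_eq_one.2 hc] at hlow
        omega
      le := FFThm.relIndex_le_iff.2 (hcA.trans (hTz.trans (hTV.trans hlow))) }
  have f := fsr_of hFF hG h₂ hAS hoff hv hR hR' h.zc_le_R
  -- natural
  have hnat := fs_nat hFF hG h₂ hAS hoff hv hR hR' h.zc_le_R (fun a ha hac w hw haw => by
    rw [← f.cR]
    refine ⟨hw, mem_centralizer_iff.2 ?_⟩
    by_cases hwE : p * w * p⁻¹ ∈ EE V F
    · exact fun a' ha' => hi w hw hwE a' ha'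
    · exact absurd (hpRV a (hii w (hV hw) hwE a ha haw)) hac) (by rw [h.M.card_R]; exact hK)
  -- `q = r`
  have hpos : 0 < Nat.card h.M.R := Nat.card_pos
  have hRz : h.M.R.relIndex (zl (S : Subgroup G) P₂) = Nat.card K := by
    have h1 := card_mul_relIndex' f.RV
    rw [f.cardV] at h1
    rw [Nat.eq_of_mul_eq_mul_left hpos h1, h.M.card_R]
  have hcAz : (centralizer (A : Set G)).relIndex (zl (S : Subgroup G) P₂) = Nat.card K := by
    rw [← hRz, ← f.cR, inf_comm, inf_relIndex_right]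
  have hTeq : (MulAut.conj p⁻¹ • EE V F).relIndex (zl (S : Subgroup G) P₂) =
      (MulAut.conj p⁻¹ • EE V F).relIndex V := by
    apply le_antisymm hTz
    rw [hcAz] at hcA
    exact hTV.trans hcA
  have hspan : ∀ w ∈ V, ∃ l ∈ zl (S : Subgroup G) P₂, ∃ e ∈ EE V F, w = p * l * p⁻¹ * e := by
    have hn : zl (S : Subgroup G) P₂ ≤ normalizer ((MulAut.conj p⁻¹ • EE V F : Subgroup G) : Set G) := by
      refine (hV.trans (h.hyp.comm.trans (centralizer_le hT))).trans (centralizer_le_normalizer _)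
    have h1 := Subgroup.relIndex_mul_relIndex (MulAut.conj p⁻¹ • EE V F)
      (zl (S : Subgroup G) P₂ ⊔ MulAut.conj p⁻¹ • EE V F) V le_sup_right (sup_le hV hT)
    have h2 : (MulAut.conj p⁻¹ • EE V F).relIndex (zl (S : Subgroup G) P₂) ≤
        (MulAut.conj p⁻¹ • EE V F).relIndex (zl (S : Subgroup G) P₂ ⊔ MulAut.conj p⁻¹ • EE V F) :=
      relIndex_le_of_le_right le_sup_left index_ne_zero_of_finite
    rw [hTeq] at h2
    have h3 : (MulAut.conj p⁻¹ • EE V F).relIndex V ≠ 0 := index_ne_zero_of_finite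
    have h4 : (zl (S : Subgroup G) P₂ ⊔ MulAut.conj p⁻¹ • EE V F).relIndex V ≠ 0 := index_ne_zero_of_finite
    have h5 : (zl (S : Subgroup G) P₂ ⊔ MulAut.conj p⁻¹ • EE V F).relIndex V ≤ 1 := by
      by_contra hcon
      push Not at hcon
      have h6 := Nat.mul_le_mul h2 hcon
      omega
    have h6 : V ≤ zl (S : Subgroup G) P₂ ⊔ MulAut.conj p⁻¹ • EE V F := relIndex_eq_one.1 (by omega)
    intro w hw
    have h7 : p⁻¹ * w * p⁻¹⁻¹ ∈ V := (mem_normalizer_iff.1 (h.PV (inv_mem hp)) w).1 hw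
    have h8 := h6 h7
    rw [← SetLike.mem_coe, coe_mul_of_left_le_normalizer_right _ _ hn] at h8
    obtain ⟨l, hl, t, ht, h9⟩ := h8
    rw [SetLike.mem_coe, mem_cj, inv_inv] at ht
    refine ⟨l, hl, p * t * p⁻¹, ht, ?_⟩
    have h10 : l * t = p⁻¹ * w * p⁻¹⁻¹ := h9
    have e : p * l * p⁻¹ * (p * t * p⁻¹) = p * (l * t) * p⁻¹ := by group
    rw [e, h10]
    group
  refine ⟨hnat, hx, fun e he s hs hsL => b.comm_E he ⟨hs, hsL⟩, (b.cent_conjL hx hb).le, ⟨p, hp, hspan⟩, ?_, ?_⟩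
  · obtain ⟨l, hl, hlN⟩ := h.exists_conjL hx hb
    have h1 := h.conjL_le hx hl
    exact ⟨l, h1.1, h1.2, hlN⟩
  · -- two elements of `A`
    have h1 : 2 < Nat.card h.M.R := by rw [h.M.card_R]; exact hK
    obtain ⟨z₁, hz₁, hz₁1⟩ : ∃ z ∈ h.M.R, z ≠ 1 := by
      by_contra hcon
      push Not at hcon
      have : h.M.R = ⊥ := (Subgroup.eq_bot_iff_forall _).2 hcon
      rw [this, Subgroup.card_bot] at h1
      omega
    obtain ⟨z₂, hz₂, hz₂1, hz₂z⟩ : ∃ z ∈ h.M.R, z ≠ 1 ∧ z ≠ z₁ := by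
      by_contra hcon
      push Not at hcon
      have h3 : (Set.univ : Set h.M.R) ⊆ {1, ⟨z₁, hz₁⟩} := by
        rintro ⟨z, hz⟩ -
        by_cases hz1 : z = 1
        · left; exact Subtype.ext hz1
        · right; exact Subtype.ext (hcon z hz hz1)
      have h4 := Set.ncard_le_ncard h3 (Set.toFinite _)
      rw [Set.ncard_univ] at h4
      have h5 := Set.ncard_insert_le (1 : h.M.R) {⟨z₁, hz₁⟩}
      rw [Set.ncard_singleton] at h5
      omega
    have h3 : z₁ * z₂ ≠ 1 := by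
      intro h4
      apply hz₂z
      have h5 := h.hyp.inv (h.R_le_V hz₁)
      rw [← h5]
      exact (inv_eq_of_mul_eq_one_right h4).symm
    obtain ⟨a, ha, hav⟩ := hR z₁ hz₁
    obtain ⟨a', ha', hav'⟩ := hR z₂ hz₂
    have key : ∀ {t z : G}, t * v * t⁻¹ * v⁻¹ = z → z ≠ 1 → t ∉ centralizer (zl (S : Subgroup G) P₂ : Set G) := by
      intro t z h4 h5 h6
      apply h5
      rw [← h4, ← mem_centralizer_iff.1 h6 v hv, mul_inv_cancel_right, mul_inv_cancel]
    refine ⟨p⁻¹, inv_mem hp, a, hA ▸ ha, a', hA ▸ ha', key hav hz₁1, key hav' hz₂1, key (z := z₁ * z₂) ?_ h3⟩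
    have h4 := mem_centralizer_iff.1 (f.AR ha') z₁ hz₁
    have e : a' * a * v * (a' * a)⁻¹ * v⁻¹ = (a' * (a * v * a⁻¹ * v⁻¹) * a'⁻¹) * (a' * v * a'⁻¹ * v⁻¹) := by group
    rw [e, hav, hav', ← h4, mul_inv_cancel_right]

end Fr

end Cfsg.Agent.Omega.BetaFF

end

section


/-!
# THEOREM BETA-FF(1) (helper284 #19171): UNIQ over `R`

The frame `Fr K S P V F V_P U` (`W_F ≤ S` moves the natural line `V_P`, `|K| > 2`), no pair of lines of `P*(S)` acting
on each other (`NOff`): for all `P₂ ∈ P*(S)` with `P₂ ≤ N(V)` and `V_{P₂} ≤ V ∩ U`: `V_{P₂} ≤ R` or `V_{P₂} = V_P`.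
-/

set_option autoImplicit false

namespace Cfsg.Agent.Omega.BetaFF

open Subgroup Cfsg Cfsg.Agent.Omega.NOne.Flat Cfsg.Agent.Omega.NO3S.Fld Cfsg.Agent.Omega.MinPar
open Cfsg.Agent.Omega.NOne.NearFF (c c_def)
open Cfsg.Agent.ZN (o2 zl zc)
open Cfsg.Agent.MinSimple.VModule (zc_le zc_le_zl zl_le le_o2 le_normalizer_zl le_normalizer_o2 oddGen oddGen_le)
open Cfsg.Agent.Omega.FFThm (OffM NoOverM StmtM)
open Cfsg.Agent.Omega.NO3S.BetaFF.EndB (Line PtLine Side Inp)
open scoped Pointwise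

universe u

variable {G : Type u} [Group G] [Finite G] {S : Sylow 2 G} {P P₂ V F U : Subgroup G}

/-- A natural line, over `B = C_S(R)`. -/
theorem ptLine_of {K : Type*} [Field K] (hG : IsCharacteristicTwoType G) (hP : IsParS (S : Subgroup G) P)
    (M : Crd K (S : Subgroup G) P (zl (S : Subgroup G) P)) :
    PtLine ((S : Subgroup G) ⊓ centralizer (M.R : Set G)) P M.R (zl (S : Subgroup G) P) where
  SP := inf_le_left.trans hP.le
  norm := le_normalizer_zl _ _
  ZL := M.R_le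
  comm := fun l hl s hs => by
    have h1 := inv_mem (M.comm_R hs.1 hs.2 hl)
    have e : c l s = (s * l * s⁻¹ * l⁻¹)⁻¹ := by rw [c]; group
    rw [e]
    exact h1
  core := fun g hg s hs hsL => by
    have h1 : s ∈ o2 P := by
      rw [← hP.inf_centralizer S hG]
      exact ⟨hs.1, hsL⟩
    have h2 := (mem_normalizer_iff.1 (le_normalizer_o2 P hg) s).1 h1
    rw [← hP.inf_centralizer S hG] at h2
    exact ⟨h2.1, centralizer_le M.R_le h2.2⟩
  ti := fun g hg hne => crd_ti M (le_normalizer_zl _ _) hg hne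
  mv := fun g hg hne s hs hsL => crd_mv M (le_normalizer_zl _ _) hg hne hs.1 hs.2 hsL

/-- The lines of `P*(S)` do not act on each other. -/
def NOff (S : Subgroup G) : Prop := ∀ Q, IsParS S Q → ∀ Q', IsParS S Q' → ∀ g : G,
  zl S Q ≤ MulAut.conj g • Q' → MulAut.conj g • zl S Q' ≤ Q →
    zl S Q ≤ centralizer ((MulAut.conj g • zl S Q' : Subgroup G) : Set G)

namespace Fr

variable {K : Type*} [Field K]

/-- All lines on a point `R^g ≤ F` lie in `E`. -/
theorem low_of {L : Subgroup G} (h : Fr K S P V F L U) {g : G} (hg : g ∈ normalizer (V : Set G)) {X : Subgroup G}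
    (hX : X ≤ V) (hXU : X ≤ U) (hF : MulAut.conj g • h.M.R ≤ F) : MulAut.conj g • X ≤ EE V F := by
  have h1 : MulAut.conj g • X ≤ V := by
    rw [← NOne.Flat.conj_eq_of_norm hg]
    exact Subgroup.pointwise_smul_le_pointwise_smul_iff.2 hX
  refine le_inf h1 fun x hx => ?_
  have h2 : MulAut.conj g • X ≤ o2 (centralizer ((MulAut.conj g • h.M.R : Subgroup G) : Set G)) := by
    rw [← NOne.Flat.conj_centralizer, ← NOne.Flat.o2_conj]
    exact Subgroup.pointwise_smul_le_pointwise_smul_iff.2 (hXU.trans h.Uo2)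
  exact NOne.Flat.o2_inf_le_o2 (centralizer_le hF) ⟨h2 hx, h.hyp.V_le_X (h1 hx)⟩

/-- **THEOREM BETA-FF(1), UNIQ over `R`.** -/
theorem le_or_eq (hFF : StmtM.{u}) (hG : IsCharacteristicTwoType G) (hP : IsParS (S : Subgroup G) P)
    (h : Fr K S P V F (zl (S : Subgroup G) P) U) (hK : 2 < Nat.card K) (hno : NOff (S : Subgroup G))
    (h₂ : IsParS (S : Subgroup G) P₂) (hPV : P₂ ≤ normalizer (V : Set G)) (hV : zl (S : Subgroup G) P₂ ≤ V)
    (hU : zl (S : Subgroup G) P₂ ≤ U) :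
    zl (S : Subgroup G) P₂ ≤ h.M.R ∨ zl (S : Subgroup G) P₂ = zl (S : Subgroup G) P := by
  by_contra hcon
  push Not at hcon
  obtain ⟨hne, hneq⟩ := hcon
  -- `E₂ ∩ L ≤ R`
  have hinf : zl (S : Subgroup G) P₂ ⊓ zl (S : Subgroup G) P ≤ h.M.R := by
    by_contra hn
    obtain ⟨v, hv, hvR⟩ := SetLike.not_le_iff_exists.1 hn
    exact hneq (h.four_a hFF hG hP h₂ hV hU hv.1 hv.2 hvR)
  obtain ⟨x, hx, hb⟩ := h.exists_bad
  have o := h.four_b hFF hG hP hK h₂ hV hne hinf hx hb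
  obtain ⟨F₂, _, _, _, M₂, hM₂⟩ := o.nat
  have hWB : WW V F ≤ (S : Subgroup G) ⊓ centralizer (h.M.R : Set G) := le_inf h.WS h.WR
  have l1 := (ptLine_of hG hP h.M).toLine
  have l2 := ptLine_of hG h₂ M₂
  rw [hM₂] at l2
  have inp : Inp V F ((S : Subgroup G) ⊓ centralizer (h.M.R : Set G)) P P₂ h.M.R (zl (S : Subgroup G) P)
      (zl (S : Subgroup G) P₂) x :=
    { hyp := h.hyp
      WS := hWB
      l := l1
      l₂ := l2
      LV := h.LV
      L₂V := hV
      PV := h.PV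
      P₂V := hPV
      ZF := h.R_le_F
      low := fun g hg hF => h.low_of (hPV hg) h.LV h.LU hF
      low₂ := h.zl_le_E hV hU
      noff := fun g h1 h2 => hno P hP P hP g h1 h2
      noff₂ := fun g h1 h2 => hno P₂ h₂ P hP g h1 h2
      hx := hx
      D := o.D
      inf := by rw [inf_comm]; exact hinf }
  refine inp.false_of h.mv ⟨o.E, o.span⟩ (fun hm => ?_) o.hB o.hA ?_
  · -- the frame of `P₂`
    obtain ⟨fr₂, hfr⟩ : ∃ fr : Fr F₂ S P₂ V F (zl (S : Subgroup G) P₂) U, fr.M.R = h.M.R := ⟨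
      { hyp := h.hyp
        SP := h₂.le
        PV := hPV
        PL := le_normalizer_zl _ _
        LV := hV
        M := M₂
        WS := h.WS
        WR := by rw [hM₂]; exact h.WR
        mv := hm
        PQ := by rw [h₂.inf_centralizer S hG]; exact le_normalizer_o2 P₂
        LU := hU
        Ucomm := h.Ucomm
        Uo2 := by rw [hM₂]; exact h.Uo2
        UN := by rw [hM₂]; exact h.UN }, hM₂⟩
    have hcK : 2 < Nat.card F₂ := by rw [← M₂.card_R, hM₂, h.M.card_R]; exact hK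
    have o₂ := fr₂.four_b hFF hG h₂ hcK hP h.LV (by
      rw [hfr]
      obtain ⟨v, hv, hvR⟩ := h.M.exists_ne_R
      exact fun hle => hvR (hle hv)) (by
      rw [hfr, inf_comm]
      exact hinf) hx hb
    have hE := o₂.E
    rw [hfr] at hE
    exact ⟨hE, o₂.span⟩
  · obtain ⟨g, hg, h1⟩ := crd_exists_mv M₂
    rw [hM₂] at h1
    exact ⟨g, hg, h1⟩

end Fr

end Cfsg.Agent.Omega.BetaFF

end

end

-- merged: Cfsg.Agent.Mrg.Omega.NO3S.BetaFF.UniqZ
section

/-!
# THEOREM BETA-FF(1) (helper284 #19171): the frame and `Uniq S P`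

`HypN S P`; `V` any group with `Flat.Hyp V F`, `W_F ≤ S`, `W_F ≰ O₂(P)`, `P ≤ N(V)`, `V_P ≤ V`; `V_P` natural over `K`.

* `UU S` : the group of all lines of `P*(S)` on `Z`;
* `nOff`, `exists_fr` : the frame `Fr K S P V F V_P (UU S)` exists (fields allowed);
* `Fr.fsr_of_mem` : `V_Q ∩ V_P ≰ R` ⟹ `FSR S Q W_F R v`, in particular `C_{V_Q}(O²(Q)) = 1`;
* `Fr.le_or` : `V_Q ≤ R`, or `V_Q = V_P` and `C_{V_Q}(O²(Q)) = 1`, for all `Q ∈ P*(S)` with `Q ≤ N(V)`, `V_Q ≤ V`;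
* `Fr.toUniq` : `|Z| = |K|` ⟹ `Uniq S P`;  `Fr.zc_o2` : `Ω₁(Z(O₂(P))) = V_P`.
-/

set_option autoImplicit false
set_option linter.unusedVariables false
set_option linter.unusedSectionVars false

namespace Cfsg.Agent.Omega.BetaFF

open Subgroup Cfsg Cfsg.Agent.Omega.NOne.Flat Cfsg.Agent.Omega.NO3S.Fld Cfsg.Agent.Omega.MinPar
open Cfsg.Agent.Omega.NOne.NearFF (c c_def)
open Cfsg.Agent.ZN (o2 zl zc)
open Cfsg.Agent.MinSimple.VModule (zc_le zc_le_zl zl_le le_o2 le_normalizer_zl le_normalizer_o2 oddGen oddGen_le)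
open Cfsg.Agent.Omega.FFThm (OffM NoOverM StmtM)
open Cfsg.Agent.Omega.FrameFF (cv)
open Cfsg.Agent.Omega.FrameNOFF (CZ)
open Cfsg.Agent.Omega.NoFF.Lines (Geo)
open Cfsg.Agent.Omega.NO3S (HypN Uniq)
open Cfsg.Agent.Omega.NO3S.BetaFF (FSR fsr_of le_EE_of_low zc_le_F)
open scoped Pointwise

universe u

variable {G : Type u} [Group G] [Finite G] {S : Sylow 2 G} {P Q V F : Subgroup G}

/-- The group of all lines of `P*(S)` on the point `Z`. -/
def UU (S : Subgroup G) : Subgroup G := NoFF.Lines.W (zc S) (CZ S) {R | IsParS S R}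

/-- The geometry of all of `P*(S)`. -/
theorem geoAll (h : HypN S P) : Geo (S : Subgroup G) (zc (S : Subgroup G)) (CZ (S : Subgroup G))
    {R | IsParS (S : Subgroup G) R} :=
  NoFF.LinesPlug.geo h.ctx.char2 S h.toHyp.ne h.noFF (F := {R | IsParS (S : Subgroup G) R}) (fun _ hR => hR)
    fun R hR => h.low R hR

theorem nOff (h : HypN S P) : NOff (S : Subgroup G) := fun Q hQ Q' hQ' g h1 h2 =>
  (geoAll h).noff Q hQ Q' hQ' g h1 h2

theorem zl_le_UU (hQ : IsParS (S : Subgroup G) Q) : zl (S : Subgroup G) Q ≤ UU (S : Subgroup G) := by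
  have h1 := NoFF.Lines.line_le (Z := zc (S : Subgroup G)) (C := CZ (S : Subgroup G))
    (F := {R | IsParS (S : Subgroup G) R}) (P := Q) hQ (one_mem _)
  rw [map_one, one_smul] at h1
  exact h1

theorem UU_comm (h : HypN S P) : UU (S : Subgroup G) ≤ centralizer (UU (S : Subgroup G) : Set G) := (geoAll h).W_comm

theorem UU_norm : CZ (S : Subgroup G) ≤ normalizer (UU (S : Subgroup G) : Set G) :=
  NoFF.Lines.C_le_normalizer_W

/-- `UU S ≤ O₂(C_G(R))` for `Z ≤ R ≤ UU S`. -/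
theorem UU_le_o2 (h : HypN S P) {R : Subgroup G} (h1 : zc (S : Subgroup G) ≤ R) (h2 : R ≤ UU (S : Subgroup G)) :
    UU (S : Subgroup G) ≤ o2 (centralizer (R : Set G)) := by
  refine MinSimple.VModule.le_o2 ((UU_comm h).trans (centralizer_le h2)) ?_
    ((centralizer_le h1).trans UU_norm)
  intro w
  refine ⟨1, Subtype.ext ?_⟩
  have := (geoAll h).W_sq w w.2
  simpa using this

/-- **The frame.** -/
theorem exists_fr (h : HypN S P) (hf : NOne.Flat.Hyp V F) (hPV : P ≤ normalizer (V : Set G))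
    (hLV : zl (S : Subgroup G) P ≤ V) (hW : WW V F ≤ (S : Subgroup G)) (hm : ¬ WW V F ≤ o2 P)
    {K : Type*} [Field K] [Finite K] [CharP K 2] (M : Crd K (S : Subgroup G) P (zl (S : Subgroup G) P)) :
    ∃ fr : Fr K S P V F (zl (S : Subgroup G) P) (UU (S : Subgroup G)), fr.M = M := by
  have hG := h.ctx.char2
  have hZR : zc (S : Subgroup G) ≤ M.R := fun z hz =>
    M.mem_R_of_comm (zc_le_zl _ _ hz) fun b hb _ => (ZN.mem_zc.1 hz).2.1 b hb
  have hRU : M.R ≤ UU (S : Subgroup G) := M.R_le.trans (zl_le_UU h.star)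
  have hZF := zc_le_F hf ((zc_le_zl _ _).trans hLV) hW
  have hE : zl (S : Subgroup G) P ≤ EE V F := le_EE_of_low hf hLV hZF (h.low P h.star)
  have hmv : ¬ WW V F ≤ centralizer (zl (S : Subgroup G) P : Set G) := fun h1 => hm (by
    rw [← h.star.inf_centralizer S hG]
    exact le_inf hW h1)
  have hEl : FFThm.ElemM (zl (S : Subgroup G) P) (WW V F) :=
    ⟨fun a ha => centralizer_le (hE.trans inf_le_left) (hf.elemM_W.sq a ha),
      fun a ha b hb => centralizer_le (hE.trans inf_le_left) (hf.elemM_W.comm a ha b hb)⟩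
  have hWR : WW V F ≤ centralizer (M.R : Set G) :=
    M.off_le_centR hW hEl (FFThm.relIndex_le_iff.2 (hf.off_of_le_all hE))
  exact ⟨{ hyp := hf
           SP := h.star.le
           PV := hPV
           PL := le_normalizer_zl _ _
           LV := hLV
           M := M
           WS := hW
           WR := hWR
           mv := hmv
           PQ := by rw [h.star.inf_centralizer S hG]; exact le_normalizer_o2 P
           LU := zl_le_UU h.star
           Ucomm := UU_comm h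
           Uo2 := UU_le_o2 h hZR hRU
           UN := (centralizer_le hZR).trans UU_norm }, rfl⟩

namespace Fr

variable {K : Type*} [Field K] {U : Subgroup G}

/-- `V_Q ∩ V_P ≰ R` ⟹ LEMMA FS for `V_Q`. -/
theorem fsr_of_mem (hFF : StmtM.{u}) (hG : IsCharacteristicTwoType G)
    (h : Fr K S P V F (zl (S : Subgroup G) P) U) (h₂ : IsParS (S : Subgroup G) Q)
    (hV : zl (S : Subgroup G) Q ≤ V) (hU : zl (S : Subgroup G) Q ≤ U) {v : G}
    (hv : v ∈ zl (S : Subgroup G) Q) (hvL : v ∈ zl (S : Subgroup G) P) (hvR : v ∉ h.M.R) :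
    FSR (S : Subgroup G) Q (WW V F) h.M.R v := by
  have hE := h.zl_le_E hV hU
  have hm : ¬ WW V F ≤ centralizer (zl (S : Subgroup G) Q : Set G) := by
    intro hc
    have h1 : h.M.R = ⊥ := by
      rw [eq_bot_iff]
      intro z hz
      obtain ⟨w, hw, rfl⟩ := h.surjW hvL hvR hz
      rw [mem_bot, ← mem_centralizer_iff.1 (hc hw) v hv, mul_inv_cancel_right, mul_inv_cancel]
    have h2 := h.M.card_R
    rw [h1, Subgroup.card_bot] at h2
    have := h.one_lt_card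
    omega
  exact fsr_of hFF hG h₂ h.WS (h.offM_of hE hm) hv (fun z hz => h.surjW hvL hvR hz) (fun a ha => h.commW hvL ha)
    h.zc_le_R

/-- **UNIQ over `R`**, with `C_{V_Q}(O²(Q)) = 1`. -/
theorem le_or (hFF : StmtM.{u}) (hG : IsCharacteristicTwoType G) (hP : IsParS (S : Subgroup G) P)
    (h : Fr K S P V F (zl (S : Subgroup G) P) U) (hK : 2 < Nat.card K) (hno : NOff (S : Subgroup G))
    (h₂ : IsParS (S : Subgroup G) Q) (hPV : Q ≤ normalizer (V : Set G)) (hV : zl (S : Subgroup G) Q ≤ V)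
    (hU : zl (S : Subgroup G) Q ≤ U) :
    zl (S : Subgroup G) Q ≤ h.M.R ∨
      (zl (S : Subgroup G) Q = zl (S : Subgroup G) P ∧ cv (S : Subgroup G) Q = ⊥) := by
  refine (h.le_or_eq hFF hG hP hK hno h₂ hPV hV hU).imp id fun h1 => ⟨h1, ?_⟩
  obtain ⟨v, hv, hvR⟩ := h.M.exists_ne_R
  exact (h.fsr_of_mem hFF hG h₂ hV hU (h1 ▸ hv) hv hvR).cv

/-- `|Z| = |K|` ⟹ `R = Z`. -/
theorem R_eq (h : Fr K S P V F (zl (S : Subgroup G) P) U) (hZ : Nat.card (zc (S : Subgroup G)) = Nat.card K) :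
    h.M.R = zc (S : Subgroup G) :=
  (Subgroup.eq_of_le_of_card_ge h.zc_le_R (by rw [h.M.card_R, hZ])).symm

theorem not_zl_le_zc (hQ : IsParS (S : Subgroup G) Q) : ¬ zl (S : Subgroup G) Q ≤ zc (S : Subgroup G) := by
  intro h1
  apply hQ.not_zc
  have h2 : zl (S : Subgroup G) Q = zc (S : Subgroup G) := le_antisymm h1 (zc_le_zl _ _)
  have h3 := le_normalizer_zl (S : Subgroup G) Q
  rwa [h2] at h3

/-- **`Uniq S P`** if `R = Z`. -/
theorem toUniq (hFF : StmtM.{u}) (hG : IsCharacteristicTwoType G) (hP : IsParS (S : Subgroup G) P)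
    (h : Fr K S P V F (zl (S : Subgroup G) P) U) (hK : 2 < Nat.card K)
    (hZ : Nat.card (zc (S : Subgroup G)) = Nat.card K) (hno : NOff (S : Subgroup G))
    (hall : ∀ R, IsParS (S : Subgroup G) R → R ≤ normalizer (V : Set G) ∧ zl (S : Subgroup G) R ≤ V)
    (hU : ∀ R, IsParS (S : Subgroup G) R → zl (S : Subgroup G) R ≤ U) : Uniq (S : Subgroup G) P := by
  have key : ∀ R : Subgroup G, IsParS (S : Subgroup G) R →
      zl (S : Subgroup G) R = zl (S : Subgroup G) P ∧ cv (S : Subgroup G) R = ⊥ := by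
    intro R hR
    rcases h.le_or hFF hG hP hK hno hR (hall R hR).1 (hall R hR).2 (hU R hR) with h1 | h1
    · rw [h.R_eq hZ] at h1
      exact absurd h1 (not_zl_le_zc hR)
    · exact h1
  refine ⟨fun R hR => (key R hR).1, fun R hR => ?_⟩
  rw [eq_bot_iff, ← (key R hR).2]
  exact inf_le_inf (zc_le_zl _ _) (centralizer_le (oddGen_le R))

/-- **(T6)** `Ω₁(Z(O₂(P))) = V_P`. -/
theorem zc_o2 (hFF : StmtM.{u}) (hG : IsCharacteristicTwoType G) (hP : IsParS (S : Subgroup G) P)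
    (h : Fr K S P V F (zl (S : Subgroup G) P) U) (hzo : zc (o2 P) ≤ V) : zc (o2 P) = zl (S : Subgroup G) P := by
  refine le_antisymm ((le_inf hzo ?_).trans (h.cent_QL hFF hG hP)) (hP.isLoc.zl_le S hG)
  rw [h.Q_eq hG hP]
  intro z hz
  rw [mem_centralizer_iff]
  exact fun q hq => (ZN.mem_zc.1 hz).2.1 q hq

end Fr

end Cfsg.Agent.Omega.BetaFF

end
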